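import Groth.Agent.NormalizNormalLib.Main
import Mathlib

/-! Fibre spaces (`O = f_* O`) and normality, also after flat base change. -/

set_option autoImplicit false
universe u

noncomputable section

open CategoryTheory CategoryTheory.Limits AlgebraicGeometry TopologicalSpace

namespace FibBCLib

variable {X Y X' Y' : Scheme.{u}} {g' : X' ⟶ X} {f' : X' ⟶ Y'} {f : X ⟶ Y} {g : Y' ⟶ Y}

theorem bijective_app_of_flat [Flat g] [QuasiCompact f] [QuasiSeparated f] (H : IsPullback g' f' f g)
    {V : Y.Opens} (hV : IsAffineOpen V) [IsIso (f.app V)] {V' : Y'.Opens} (hV' : IsAffineOpen V')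
    (hle : V' ≤ g ⁻¹ᵁ V) : Function.Bijective (f'.app V').hom := by
  have hUY : f' ⁻¹ᵁ V' = g' ⁻¹ᵁ (f ⁻¹ᵁ V) ⊓ f' ⁻¹ᵁ V' := by
    refine le_antisymm (le_inf ?_ le_rfl) inf_le_right
    intro x hx
    show f (g' x) ∈ V
    rw [← Scheme.Hom.comp_apply, H.w, Scheme.Hom.comp_apply]
    exact hle hx
  have h := (isIso_pushoutSection_iff H hle le_rfl hUY).mp
    (isIso_pushoutSection_of_isQuasiSeparated_of_flat_right H hle le_rfl hUY hV hV'
      (f.isCompact_preimage hV.isCompact) (f.isQuasiSeparated_preimage hV.isQuasiSeparated))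
  have : IsIso (f.appLE V (f ⁻¹ᵁ V) le_rfl) := by
    rw [← Scheme.Hom.app_eq_appLE]; infer_instance
  have h2 := h.isIso_inr_of_isIso
  rw [← Scheme.Hom.app_eq_appLE] at h2
  exact ConcreteCategory.bijective_of_isIso _

/-- Normality descends to the target of a fibre space, also after flat base change. -/
theorem isNormalScheme_target [Flat g] [QuasiCompact f] [QuasiSeparated f] (H : IsPullback g' f' f g)
    (hf : ∀ V : Y.Opens, IsIso (f.app V)) [IsNoetherian X'] (hX : Pi1.IsNormalScheme X') :
    Pi1.IsNormalScheme Y' := fun y => by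
  obtain ⟨V, hV, hyV, -⟩ := exists_isAffineOpen_mem_and_subset (x := g y) (U := ⊤) trivial
  obtain ⟨V', hV', hyV', hle⟩ := exists_isAffineOpen_mem_and_subset (x := y) (U := g ⁻¹ᵁ V) hyV
  have := hf V
  have hfin : LocallyFinite (fun Z : ↥(irreducibleComponents ↥X') => (Z : Set ↥X')) := by
    haveI : Finite ↥(irreducibleComponents ↥X') := NoetherianSpace.finite_irreducibleComponents.to_subtype
    exact locallyFinite_of_finite _
  have hA : NormalLib.LocNormal Γ(Y', V') :=
    NormalizNormalLib.locNormal_of_ringEquiv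
      (RingEquiv.ofBijective (f'.app V').hom (bijective_app_of_flat H hV hV' hle)).symm
      (NormalizNormalLib.locNormal_sections hX hfin (f' ⁻¹ᵁ V'))
  let x : V' := ⟨y, hyV'⟩
  letI := Y'.presheaf.algebra_section_stalk x
  have := hV'.isLocalization_stalk x
  let q := (hV'.primeIdealOf x).asIdeal
  have := (hA q).1
  have := (hA q).2
  let e' := (IsLocalization.algEquiv q.primeCompl (Localization.AtPrime q) (Y'.presheaf.stalk y)).toRingEquiv
  exact ⟨e'.symm.toMulEquiv.isDomain _, IsIntegrallyClosed.of_equiv e'⟩

theorem isIntegral_target [Flat g] [QuasiCompact f] [QuasiSeparated f] (H : IsPullback g' f' f g)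
    (hf : ∀ V : Y.Opens, IsIso (f.app V)) [Surjective f] [IsIntegral X'] : IsIntegral Y' := by
  have : Surjective f' := MorphismProperty.of_isPullback H inferInstance
  have : ∀ y : Y', _root_.IsReduced (Y'.presheaf.stalk y) := fun y => by
    obtain ⟨V, hV, hyV, -⟩ := exists_isAffineOpen_mem_and_subset (x := g y) (U := ⊤) trivial
    obtain ⟨V', hV', hyV', hle⟩ := exists_isAffineOpen_mem_and_subset (x := y) (U := g ⁻¹ᵁ V) hyV
    have := hf V
    have : _root_.IsReduced Γ(Y', V') :=
      isReduced_of_injective (f'.app V').hom (bijective_app_of_flat H hV hV' hle).injective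
    let x : V' := ⟨y, hyV'⟩
    letI := Y'.presheaf.algebra_section_stalk x
    have := hV'.isLocalization_stalk x
    exact isReduced_localizationPreserves (hV'.primeIdealOf x).asIdeal.primeCompl (Y'.presheaf.stalk y) inferInstance
  have : IsReduced Y' := isReduced_of_isReduced_stalk Y'
  have : IrreducibleSpace Y' :=
    { toPreirreducibleSpace := Function.Surjective.preirreducibleSpace f'.continuous f'.surjective
      toNonempty := ⟨f' (Classical.arbitrary X')⟩ }
  exact isIntegral_of_irreducibleSpace_of_isReduced Y'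

theorem flat_toField {K : Type u} [Field K] {k : Type u} [Field k]
    (y : Spec (CommRingCat.of K) ⟶ Spec (CommRingCat.of k)) : Flat y := by
  obtain ⟨φ, rfl⟩ := Spec.map_surjective y
  letI := φ.hom.toAlgebra
  refine (HasRingHomProperty.Spec_iff (P := @Flat)).mpr ?_
  exact RingHom.flat_algebraMap_iff.mpr inferInstance

variable (k : Type u) [Field k] (s : X ⟶ Spec (CommRingCat.of k)) (t : Y ⟶ Spec (CommRingCat.of k))

theorem normal_of_proper [IsProper s] [IsProper t] (hf : f ≫ t = s) (hfib : ∀ V : Y.Opens, IsIso (f.app V))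
    (hX : Pi1.IsNormalScheme X) : Pi1.IsNormalScheme Y := by
  have : IsProper (f ≫ t) := hf ▸ inferInstance
  have : IsProper f := IsProper.of_comp f t
  have : IsLocallyNoetherian X := LocallyOfFiniteType.isLocallyNoetherian s
  have : CompactSpace X := QuasiCompact.compactSpace_of_compactSpace s
  haveI : IsNoetherian X := ⟨⟩
  exact isNormalScheme_target (f := f) (f' := f) (g := 𝟙 Y) (g' := 𝟙 X) (IsPullback.of_horiz_isIso ⟨by simp⟩) hfib hX

theorem normal_baseChange {K : Type u} [Field K] (y : Spec (CommRingCat.of K) ⟶ Spec (CommRingCat.of k))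
    [IsProper s] [IsProper t] (hf : f ≫ t = s) (hfib : ∀ V : Y.Opens, IsIso (f.app V))
    (hX : Pi1.IsNormalScheme (pullback s y)) : Pi1.IsNormalScheme (pullback t y) := by
  subst hf
  have : IsProper f := IsProper.of_comp f t
  have := flat_toField y
  let f₀ : pullback (f ≫ t) y ⟶ pullback t y := pullback.lift (pullback.fst (f ≫ t) y ≫ f) (pullback.snd (f ≫ t) y)
    (by rw [Category.assoc]; exact pullback.condition)
  have H : IsPullback (pullback.fst (f ≫ t) y) f₀ f (pullback.fst t y) := by
    refine IsPullback.of_bot ?_ (pullback.lift_fst _ _ _).symm (IsPullback.of_hasPullback t y)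
    rw [show f₀ ≫ pullback.snd t y = pullback.snd (f ≫ t) y from pullback.lift_snd _ _ _]
    exact IsPullback.of_hasPullback (f ≫ t) y
  have : IsLocallyNoetherian (pullback (f ≫ t) y) :=
    LocallyOfFiniteType.isLocallyNoetherian (pullback.snd (f ≫ t) y)
  have : CompactSpace ↥(pullback (f ≫ t) y) :=
    QuasiCompact.compactSpace_of_compactSpace (pullback.snd (f ≫ t) y)
  haveI : IsNoetherian (pullback (f ≫ t) y) := ⟨⟩
  exact isNormalScheme_target H hfib hX

theorem geometricallyIntegral [IsProper s] [IsProper t] [Surjective f] (hf : f ≫ t = s)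
    (hfib : ∀ V : Y.Opens, IsIso (f.app V)) [GeometricallyIntegral s] : GeometricallyIntegral t := by
  subst hf
  have : IsProper f := IsProper.of_comp f t
  refine ⟨fun K _ y Z fst snd h => ?_⟩
  have := flat_toField y
  have : Flat fst := MorphismProperty.of_isPullback h.flip inferInstance
  have H : IsPullback (pullback.fst f fst) (pullback.snd f fst) f fst := IsPullback.of_hasPullback f fst
  haveI : IsIntegral (pullback f fst) :=
    GeometricallyIntegral.geometrically_isIntegral y _ _ (H.paste_vert h)
  exact isIntegral_target H hfib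

end FibBCLib
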