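import Groth.Agent.FibBCLib.Torsor

/-! Properties of associated bundles. -/

set_option autoImplicit false
universe u

noncomputable section

open CategoryTheory CategoryTheory.Limits MonoidalCategory CartesianMonoidalCategory AlgebraicGeometry
open scoped MonObj

namespace FibBCLib

variable {k : Type u} [Field k] {G H B : Over (Spec (CommRingCat.of k))} [GrpObj G] [GrpObj H] (j : H ⟶ G)

theorem act_fst {X : Over (Spec (CommRingCat.of k))} (r : AlgGrp.Action H G)
    (hr : ∀ (T : Over (Spec (CommRingCat.of k))) (h : T ⟶ H) (g : T ⟶ G), lift h g ≫ r.act = g * (h ≫ j)⁻¹)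
    (b : AlgGrp.Action H (G ⊗ X)) (F : ∀ (T : Over (Spec (CommRingCat.of k))), (T ⟶ H) → (T ⟶ X) → (T ⟶ X))
    (hb : ∀ (T : Over (Spec (CommRingCat.of k))) (h : T ⟶ H) (g : T ⟶ G) (x : T ⟶ X),
      lift h (lift g x) ≫ b.act = lift (g * (h ≫ j)⁻¹) (F T h x)) :
    b.act ≫ fst G X = (H ◁ fst G X) ≫ r.act := by
  have h1 : lift (fst H (G ⊗ X)) (lift (snd H (G ⊗ X) ≫ fst G X) (snd H (G ⊗ X) ≫ snd G X)) = 𝟙 _ := by
    refine CartesianMonoidalCategory.hom_ext _ _ (by simp) ?_
    rw [lift_snd, Category.id_comp, ← comp_lift, lift_fst_snd, Category.comp_id]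
  have h2 : H ◁ fst G X = lift (fst H (G ⊗ X)) (snd H (G ⊗ X) ≫ fst G X) := by
    refine CartesianMonoidalCategory.hom_ext _ _ ?_ ?_ <;> simp
  rw [← Category.id_comp b.act, ← h1, Category.assoc, h2, hr, ← Category.assoc, hb, lift_fst]

variable [QuasiCompact G.hom] (π : G ⟶ B) (r : AlgGrp.Action H G) (hπinv : GIT.IsInvariant r π)
  [IsSeparated B.hom] [Flat π.left] [Surjective π.left]

theorem quasiCompact_left {A C : Over (Spec (CommRingCat.of k))} (h : A ⟶ C) [QuasiCompact A.hom]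
    [QuasiSeparated C.hom] : QuasiCompact h.left := by
  haveI : QuasiCompact (h.left ≫ C.hom) := (Over.w h).symm ▸ ‹QuasiCompact A.hom›
  exact QuasiCompact.of_comp h.left C.hom

theorem quasiCompact_tensor {A C : Over (Spec (CommRingCat.of k))} [QuasiCompact A.hom] [QuasiCompact C.hom] :
    QuasiCompact (A ⊗ C).hom := by
  change QuasiCompact (pullback.fst A.hom C.hom ≫ A.hom)
  infer_instance

omit [QuasiCompact G.hom] in
theorem isPullback_fst_fst (X Y : Over (Spec (CommRingCat.of k))) :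
    IsPullback (G ◁ fst X Y) (G ◁ snd X Y) (fst G X) (fst G Y) := by
  refine IsPullback.of_isLimit' ⟨by rw [whiskerLeft_fst, whiskerLeft_fst]⟩ (PullbackCone.IsLimit.mk _
    (fun s => lift (s.fst ≫ fst G X) (lift (s.fst ≫ snd G X) (s.snd ≫ snd G Y))) (fun s => ?_) (fun s => ?_)
    fun s m h1 h2 => ?_)
  · refine CartesianMonoidalCategory.hom_ext _ _ ?_ ?_ <;> simp
  · refine CartesianMonoidalCategory.hom_ext _ _ ?_ ?_ <;> simp [s.condition]
  · refine CartesianMonoidalCategory.hom_ext _ _ ?_ ?_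
    · rw [lift_fst, ← h1, Category.assoc, whiskerLeft_fst]
    · refine CartesianMonoidalCategory.hom_ext _ _ ?_ ?_
      · rw [lift_snd, lift_fst, ← h1, Category.assoc, Category.assoc, whiskerLeft_snd]
      · rw [lift_snd, lift_snd, ← h2, Category.assoc, Category.assoc, whiskerLeft_snd]

theorem isPullback_assoc (hr : ∀ (T : Over (Spec (CommRingCat.of k))) (h : T ⟶ H) (g : T ⟶ G), lift h g ≫ r.act = g * (h ≫ j)⁻¹)
    (hπinv : GIT.IsInvariant r π) (hcπ : IsIso (GIT.PsiY r π hπinv))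
    {X QX : Over (Spec (CommRingCat.of k))} [QuasiCompact X.hom] [QuasiSeparated QX.hom]
    (b : AlgGrp.Action H (G ⊗ X)) (F : ∀ (T : Over (Spec (CommRingCat.of k))), (T ⟶ H) → (T ⟶ X) → (T ⟶ X))
    (hb : ∀ (T : Over (Spec (CommRingCat.of k))) (h : T ⟶ H) (g : T ⟶ G) (x : T ⟶ X),
      lift h (lift g x) ≫ b.act = lift (g * (h ≫ j)⁻¹) (F T h x))
    (qX : G ⊗ X ⟶ QX) (hqinv : GIT.IsInvariant b qX) [Flat qX.left] [Surjective qX.left]
    (hcX : IsIso (GIT.PsiY b qX hqinv)) (pX : QX ⟶ B) (hp : qX ≫ pX = fst G X ≫ π) :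
    IsPullback qX.left (fst G X).left pX.left π.left := by
  haveI := quasiCompact_tensor (A := G) (C := X)
  haveI := quasiCompact_left qX
  exact isPullback_of_principal b r (fst G X) (act_fst j r hr b F hb) qX π pX hp hqinv hπinv hcX hcπ

theorem hQ_π : (@Surjective ⊓ @Flat ⊓ @QuasiCompact : MorphismProperty Scheme.{u}) π.left :=
  haveI := quasiCompact_left π
  ⟨⟨inferInstance, inferInstance⟩, inferInstance⟩

theorem isProper_assoc {X QX : Over (Spec (CommRingCat.of k))} [IsProper X.hom] (qX : G ⊗ X ⟶ QX) (pX : QX ⟶ B)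
    (HX : IsPullback qX.left (fst G X).left pX.left π.left) : IsProper pX.left := by
  haveI := MiscFlat6.desc_isProper.{u}
  refine MorphismProperty.of_isPullback_of_descendsAlong (P := @IsProper) HX.flip (hQ_π π) ?_
  change IsProper (pullback.fst G.hom X.hom)
  infer_instance

theorem isOpenImmersion_assoc {X Y QX QY : Over (Spec (CommRingCat.of k))} (i : X ⟶ Y) [IsOpenImmersion i.left]
    [QuasiCompact X.hom] [QuasiCompact Y.hom] [QuasiSeparated QX.hom] [QuasiSeparated QY.hom]
    (b : AlgGrp.Action H (G ⊗ X)) (c : AlgGrp.Action H (G ⊗ Y)) (hbc : b.act ≫ (G ◁ i) = (H ◁ (G ◁ i)) ≫ c.act)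
    (qX : G ⊗ X ⟶ QX) (qY : G ⊗ Y ⟶ QY) (m : QX ⟶ QY) (hm : qX ≫ m = (G ◁ i) ≫ qY)
    (hqX : GIT.IsInvariant b qX) (hqY : GIT.IsInvariant c qY) [Flat qX.left] [Surjective qX.left]
    [Flat qY.left] [Surjective qY.left] (hcX : IsIso (GIT.PsiY b qX hqX)) (hcY : IsIso (GIT.PsiY c qY hqY)) :
    IsOpenImmersion m.left := by
  haveI := quasiCompact_tensor (A := G) (C := X)
  haveI := quasiCompact_tensor (A := G) (C := Y)
  haveI := quasiCompact_left qX
  haveI := quasiCompact_left qY
  have H' := isPullback_of_principal b c (G ◁ i) hbc qX qY m hm hqX hqY hcX hcY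
  refine MorphismProperty.of_isPullback_of_descendsAlong (P := @IsOpenImmersion)
    (Q := @Surjective ⊓ @Flat ⊓ @QuasiCompact) H'.flip ⟨⟨inferInstance, inferInstance⟩, inferInstance⟩ ?_
  exact MorphismProperty.of_isPullback (P := @IsOpenImmersion) ((isPullback_whiskerLeft i).map (Over.forget _))
    ‹IsOpenImmersion i.left›

theorem isPullback_assoc_prod {X Y QX QY QXY : Over (Spec (CommRingCat.of k))}
    (qX : G ⊗ X ⟶ QX) (qY : G ⊗ Y ⟶ QY) (qXY : G ⊗ (X ⊗ Y) ⟶ QXY)
    (pX : QX ⟶ B) (pY : QY ⟶ B) (pXY : QXY ⟶ B) (fX : QXY ⟶ QX) (fY : QXY ⟶ QY)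
    (hfX : qXY ≫ fX = (G ◁ fst X Y) ≫ qX) (hfY : qXY ≫ fY = (G ◁ snd X Y) ≫ qY)
    (hfXp : fX ≫ pX = pXY) (hfYp : fY ≫ pY = pXY)
    (HX : IsPullback qX.left (fst G X).left pX.left π.left)
    (HY : IsPullback qY.left (fst G Y).left pY.left π.left)
    (HXY : IsPullback qXY.left (fst G (X ⊗ Y)).left pXY.left π.left) :
    IsPullback fX.left fY.left pX.left pY.left := by
  have hw : fX.left ≫ pX.left = fY.left ≫ pY.left := by rw [← Over.comp_left, ← Over.comp_left, hfXp, hfYp]
  let cc : QXY.left ⟶ pullback pX.left pY.left := pullback.lift fX.left fY.left hw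
  have c1 : cc ≫ pullback.fst _ _ = fX.left := pullback.lift_fst _ _ _
  have c2 : cc ≫ pullback.snd _ _ = fY.left := pullback.lift_snd _ _ _
  let κ := qXY.left ≫ cc
  have hA : IsPullback ((G ◁ fst X Y).left ≫ qX.left) (G ◁ snd X Y).left pX.left (qY.left ≫ pY.left) := by
    rw [HY.w]
    exact ((isPullback_fst_fst X Y).map (Over.forget _)).paste_horiz HX
  have hν : IsPullback κ (G ◁ snd X Y).left (pullback.snd pX.left pY.left) qY.left := by
    refine IsPullback.of_right ?_ ?_ (IsPullback.of_hasPullback pX.left pY.left)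
    · rw [Category.assoc, c1, ← Over.comp_left, hfX, Over.comp_left]
      exact hA
    · rw [Category.assoc, c2, ← Over.comp_left, hfY, Over.comp_left]
  have hbot : IsPullback κ (fst G (X ⊗ Y)).left (pullback.snd pX.left pY.left ≫ pY.left) π.left := by
    have := hν.paste_vert HY
    rwa [← Over.comp_left, whiskerLeft_fst] at this
  have hsq : IsPullback qXY.left (𝟙 _) cc κ := by
    refine IsPullback.of_bot ?_ (Category.id_comp _).symm hbot
    rw [Category.id_comp, ← Category.assoc, c2, ← Over.comp_left, hfYp]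
    exact HXY
  haveI : Flat κ := MorphismProperty.of_isPullback hν.flip (MorphismProperty.of_isPullback HY.flip ‹Flat π.left›)
  haveI := quasiCompact_left π
  haveI : Surjective κ := MorphismProperty.of_isPullback hν.flip (MorphismProperty.of_isPullback HY.flip ‹Surjective π.left›)
  haveI : QuasiCompact κ := MorphismProperty.of_isPullback hν.flip (MorphismProperty.of_isPullback HY.flip ‹QuasiCompact π.left›)
  haveI : IsIso cc := MorphismProperty.of_isPullback_of_descendsAlong (P := MorphismProperty.isomorphisms Scheme.{u})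
    (Q := @Surjective ⊓ @Flat ⊓ @QuasiCompact) hsq.flip ⟨⟨inferInstance, inferInstance⟩, inferInstance⟩
    (MorphismProperty.isomorphisms.infer_property (𝟙 _))
  exact IsPullback.of_iso_pullback ⟨hw⟩ (asIso cc) c1 c2

end FibBCLib
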