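import Groth.Agent.FibBCLib.GeomQuotBasic
import Groth.Agent.TorsFpqcLib.Basic
import Groth.Agent.AlgSpLib.AffineDescent
import Groth.Prelude.Def_NonAbH1
import Groth.Prelude.Def_ChGrp

/-! Torsors over an arbitrary base for a group over a field. -/

set_option autoImplicit false
universe u

noncomputable section

open CategoryTheory CategoryTheory.Limits MonoidalCategory CartesianMonoidalCategory AlgebraicGeometry
open scoped MonObj

namespace FibBCLib

variable {S : Scheme.{u}} {G X Y : Over S} [GrpObj G]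

theorem property_of_cart (P : MorphismProperty Scheme.{u}) [IsZariskiLocalAtTarget P] [P.IsStableUnderBaseChange]
    [P.DescendsAlong (@Surjective ⊓ @Flat ⊓ @QuasiCompact)] (a : AlgGrp.Action G X) (φ : X ⟶ Y)
    (hcart : IsPullback a.act (snd G X) φ φ)
    (hloc : NonAbH1.IsLocallyTrivialFor Scheme.fpqcPrecoverage (Over.mk φ.left : Over Y.left)) (hG : P G.hom) :
    P φ.left := by
  refine Groth.Agent.TorsFpqc.of_local P φ.left (𝟙 Y.left) fun U hU => ?_
  obtain ⟨W, c, hcf, hcs, hcq, ⟨p⟩⟩ := Groth.Agent.TorsFpqc.exists_local_section hloc hU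
  refine ⟨W, c, hcf, hcs, hcq, ?_⟩
  let g := pullback.fst (𝟙 Y.left) (c ≫ U.ι)
  let s : pullback (𝟙 Y.left) (c ≫ U.ι) ⟶ X.left := pullback.snd (𝟙 Y.left) (c ≫ U.ι) ≫ p.left
  have hs : s ≫ φ.left = g := by
    have hp : p.left ≫ φ.left = c ≫ U.ι := Over.w p
    rw [Category.assoc, hp, ← pullback.condition, Category.comp_id]
  have h1 : P (snd G X).left := by
    rw [Over.snd_left]
    exact MorphismProperty.pullback_snd _ _ hG
  have sq := (IsPullback.of_hasPullback (snd G X).left s).paste_horiz (hcart.map (Over.forget S))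
  have h2 : P (pullback.snd (snd G X).left s) := MorphismProperty.pullback_snd _ _ h1
  show P (pullback.snd φ.left g)
  rw [← hs]
  have e := sq.isoPullback_hom_snd
  rw [← Iso.eq_inv_comp] at e
  simp only [Over.forget_map] at e
  exact Eq.mpr (congrArg (fun m => P m) e) ((P.cancel_left_of_respectsIso _ _).2 h2)

theorem isIso_psiY_of_cart (a : AlgGrp.Action G X) (φ : X ⟶ Y) (hinv : GIT.IsInvariant a φ)
    (hcart : IsPullback a.act (snd G X) φ φ) : IsIso (GIT.PsiY a φ hinv) := by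
  have h := hcart.map (Over.forget S)
  have e : GIT.PsiY a φ hinv = h.isoPullback.hom := by
    refine pullback.hom_ext ?_ ?_
    · exact (pullback.lift_fst _ _ _).trans h.isoPullback_hom_fst.symm
    · exact (pullback.lift_snd _ _ _).trans h.isoPullback_hom_snd.symm
  rw [e]
  infer_instance

theorem torsor_affine_geomQuot {k : Type u} [Field k] {G X Y : Over (Spec (CommRingCat.of k))} [GrpObj G]
    [IsAffine G.left] (a : AlgGrp.Action G X) (φ : X ⟶ Y) (hcart : IsPullback a.act (snd G X) φ φ)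
    (hloc : NonAbH1.IsLocallyTrivialFor Scheme.fpqcPrecoverage (Over.mk φ.left : Over Y.left)) :
    IsAffineHom φ.left ∧ GIT.IsGeomQuot a φ := by
  haveI : IsAffineHom φ.left := property_of_cart @IsAffineHom a φ hcart hloc inferInstance
  haveI : Flat φ.left := property_of_cart @Flat a φ hcart hloc inferInstance
  haveI : Surjective G.hom := by
    refine ⟨fun p => ⟨(η[G]).left p, ?_⟩⟩
    haveI : Subsingleton (Spec (CommRingCat.of k)) := inferInstanceAs (Subsingleton (PrimeSpectrum k))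
    exact Subsingleton.elim _ _
  haveI : Surjective φ.left := property_of_cart @Surjective a φ hcart hloc inferInstance
  exact ⟨inferInstance, isGeomQuot_of_flat a φ hcart.w (isIso_psiY_of_cart a φ hcart.w hcart)⟩

theorem torsor_comp {k : Type u} [Field k] {G N Q H X Y Z : Over (Spec (CommRingCat.of k))} [GrpObj G] [GrpObj N]
    [GrpObj Q] [GrpObj H] [IsAffine G.left] (iN : N ⟶ G) [IsMonHom iN] [IsClosedImmersion iN.left]
    (q : G ⟶ Q) [IsMonHom q] (hker : AlgGrp.IsKernel iN q)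
    (iH : H ⟶ G) [IsMonHom iH] [IsClosedImmersion iH.left] [IsIso (iH ≫ q)]
    (a : AlgGrp.Action G X) (φ₁ : X ⟶ Y) (h₁ : IsPullback (a.restrict iN).act (snd N X) φ₁ φ₁)
    (h₁loc : NonAbH1.IsLocallyTrivialFor Scheme.fpqcPrecoverage (Over.mk φ₁.left : Over Y.left))
    (aY : AlgGrp.Action Q Y) (hequiv : (q ⊗ₘ φ₁) ≫ aY.act = a.act ≫ φ₁)
    (φ₂ : Y ⟶ Z) (h₂ : IsPullback aY.act (snd Q Y) φ₂ φ₂)
    (h₂loc : NonAbH1.IsLocallyTrivialFor Scheme.fpqcPrecoverage (Over.mk φ₂.left : Over Z.left)) :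
    IsPullback a.act (snd G X) (φ₁ ≫ φ₂) (φ₁ ≫ φ₂) ∧
      NonAbH1.IsLocallyTrivialFor Scheme.fpqcPrecoverage (Over.mk (φ₁ ≫ φ₂).left : Over Z.left) := by
  have heq : ∀ {T : Over (Spec (CommRingCat.of k))} (g : T ⟶ G) (x : T ⟶ X),
      (lift g x ≫ a.act) ≫ φ₁ = lift (g ≫ q) (x ≫ φ₁) ≫ aY.act := fun g x => by
    rw [Category.assoc, ← hequiv, lift_map_assoc]
  have hw : a.act ≫ φ₁ ≫ φ₂ = snd G X ≫ φ₁ ≫ φ₂ := by
    rw [← reassoc_of% hequiv, h₂.w, ← Category.assoc, tensorHom_snd, Category.assoc]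
  have hex : ∀ {T : Over (Spec (CommRingCat.of k))} (x₁ x₂ : T ⟶ X), x₁ ≫ φ₁ ≫ φ₂ = x₂ ≫ φ₁ ≫ φ₂ →
      ∃ g : T ⟶ G, lift g x₂ ≫ a.act = x₁ := by
    intro T x₁ x₂ hx
    let z := h₂.lift (x₁ ≫ φ₁) (x₂ ≫ φ₁) (by rw [Category.assoc, Category.assoc]; exact hx)
    let g₀ : T ⟶ G := z ≫ fst Q Y ≫ inv (iH ≫ q) ≫ iH
    have hg₀ : g₀ ≫ q = z ≫ fst Q Y := by simp [g₀]
    have hy : (lift g₀ x₂ ≫ a.act) ≫ φ₁ = x₁ ≫ φ₁ := by
      rw [heq, hg₀]
      refine Eq.trans ?_ (h₂.lift_fst (x₁ ≫ φ₁) (x₂ ≫ φ₁) (by rw [Category.assoc, Category.assoc]; exact hx))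
      show _ = z ≫ aY.act
      congr 1
      refine CartesianMonoidalCategory.hom_ext _ _ (by simp) ?_
      rw [lift_snd]
      exact (h₂.lift_snd _ _ _).symm
    let w := h₁.lift x₁ (lift g₀ x₂ ≫ a.act) hy.symm
    refine ⟨(w ≫ fst N X ≫ iN) * g₀, ?_⟩
    rw [AlgGrp.Action.lift_mul_act, ← Category.assoc w, ← AlgGrp.Action.lift_restrict_act]
    refine Eq.trans ?_ (h₁.lift_fst x₁ (lift g₀ x₂ ≫ a.act) hy.symm)
    congr 1
    refine CartesianMonoidalCategory.hom_ext _ _ (by simp [w]) ?_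
    rw [lift_snd]
    exact (h₁.lift_snd _ _ _).symm
  have huniq : ∀ {T : Over (Spec (CommRingCat.of k))} (g g' : T ⟶ G) (x : T ⟶ X),
      lift g x ≫ a.act = lift g' x ≫ a.act → g = g' := by
    intro T g g' x hx
    have hq : g ≫ q = g' ≫ q := by
      have e : lift (g ≫ q) (x ≫ φ₁) = lift (g' ≫ q) (x ≫ φ₁) :=
        h₂.hom_ext (by rw [← heq, hx, heq]) (by simp)
      simpa using congrArg (· ≫ fst Q Y) e
    have hm : (g' * g⁻¹) ≫ q = 1 := by
      rw [MonObj.mul_comp, GrpObj.inv_comp, hq, mul_inv_cancel]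
    let n : T ⟶ N := hker.lift (g' * g⁻¹) (toUnit T) (by rw [hm, Hom.one_def])
    have hn : n ≫ iN = g' * g⁻¹ := hker.lift_fst _ _ _
    have hg' : g' = (n ≫ iN) * g := by rw [hn, inv_mul_cancel_right]
    have e : lift n (lift g x ≫ a.act) = lift (1 : T ⟶ N) (lift g x ≫ a.act) := by
      refine h₁.hom_ext ?_ (by simp)
      rw [AlgGrp.Action.lift_restrict_act, AlgGrp.Action.lift_restrict_act, MonObj.one_comp,
        AlgGrp.Action.lift_one_act, ← AlgGrp.Action.lift_mul_act, ← hg', ← hx]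
    have hn1 : n = 1 := by simpa using congrArg (· ≫ fst N _) e
    rw [hg', hn1, MonObj.one_comp, _root_.one_mul]
  refine ⟨IsPullback.of_isLimit' ⟨hw⟩ (PullbackCone.IsLimit.mk _
    (fun c => lift (hex c.fst c.snd c.condition).choose c.snd) (fun c => (hex c.fst c.snd c.condition).choose_spec)
    (fun c => lift_snd _ _) fun c m e1 e2 => ?_), ?_⟩
  · refine CartesianMonoidalCategory.hom_ext _ _ ?_ ?_
    · rw [lift_fst]
      refine huniq _ _ c.snd ?_
      rw [(hex c.fst c.snd c.condition).choose_spec, ← e1, ← e2]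
      congr 1
      exact CartesianMonoidalCategory.hom_ext _ _ (lift_fst _ _) (lift_snd _ _)
    · rw [lift_snd]
      exact e2
  · haveI : IsAffine N.left := isAffine_of_isAffineHom iN.left
    haveI : IsAffine H.left := isAffine_of_isAffineHom iH.left
    haveI : IsIso (iH ≫ q).left := inferInstanceAs (IsIso ((Over.forget _).map (iH ≫ q)))
    haveI : IsAffine Q.left := IsAffine.of_isIso (inv (iH ≫ q).left)
    obtain ⟨_, g1⟩ := torsor_affine_geomQuot (a.restrict iN) φ₁ h₁ h₁loc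
    obtain ⟨_, g2⟩ := torsor_affine_geomQuot aY φ₂ h₂ h₂loc
    haveI : Flat φ₁.left := property_of_cart @Flat (a.restrict iN) φ₁ h₁ h₁loc inferInstance
    haveI : Flat φ₂.left := property_of_cart @Flat aY φ₂ h₂ h₂loc inferInstance
    haveI : Surjective φ₁.left := ⟨g1.surj⟩
    haveI : Surjective φ₂.left := ⟨g2.surj⟩
    refine ⟨Presieve.singleton (φ₁.left ≫ φ₂.left), Scheme.Hom.singleton_mem_fpqcPrecoverage _, ?_⟩
    rintro _ _ ⟨⟩
    exact ⟨𝟙 _, Category.id_comp _⟩

end FibBCLib
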