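import Groth.Agent.FibBCLib.Torsor
import Groth.Agent.FibBCLib.TorsorQuot
import Groth.Agent.GITQuotLib.Cat
import Groth.Prelude.Def_ChGrp

/-! Quotients of balanced products. -/

set_option autoImplicit false
universe u

noncomputable section

open CategoryTheory CategoryTheory.Limits MonoidalCategory CartesianMonoidalCategory MonObj AlgebraicGeometry
open scoped MonObj

namespace FibBCLib

theorem balProd_catQuot {k : Type u} [Field k] {G H Z Y P Q : Over (Spec (CommRingCat.of k))} [GrpObj G] [GrpObj H]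
    [IsAffine H.left] (i : H ⟶ G) [IsMonHom i] (aZ : AlgGrp.Action H Z) (aY : AlgGrp.Action G Y) (j : G ⊗ Z ⟶ Y)
    (hY : ChGrp.IsBalProd Scheme.fppfPrecoverage i aZ aY j)
    (πZ : Z ⟶ P) (hP : GIT.IsCatQuot aZ πZ) (πY : Y ⟶ Q) (hQ : GIT.IsCatQuot aY πY) :
    ∃ (φ : P ⟶ Q) (χ : Q ⟶ P), φ ≫ χ = 𝟙 P ∧ χ ≫ φ = 𝟙 Q ∧
      πZ ≫ φ = lift (toUnit Z ≫ η[G]) (𝟙 Z) ≫ j ≫ πY ∧ j ≫ πY ≫ χ = snd G Z ≫ πZ := by
  obtain ⟨heq, hcart, hloc⟩ := hY
  have hloc' : NonAbH1.IsLocallyTrivialFor Scheme.fpqcPrecoverage (Over.mk j.left : Over Y.left) := by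
    obtain ⟨R, hR, h⟩ := hloc
    exact ⟨R, Scheme.fppfPrecoverage_le_fpqcPrecoverage _ hR, h⟩
  obtain ⟨hja, hgq⟩ := torsor_affine_geomQuot (ChGrp.twist i aZ) j hcart hloc'
  have hj := GITQuotLib.isCatQuot_of_isGeomQuot hgq
  haveI : Flat j.left := property_of_cart @Flat (ChGrp.twist i aZ) j hcart hloc' inferInstance
  haveI : Surjective j.left := ⟨hgq.surj⟩
  haveI : IsAffineHom j.left := hja
  let e : Z ⟶ G ⊗ Z := lift (toUnit Z ≫ η[G]) (𝟙 Z)
  have he : ∀ {T : Over (Spec (CommRingCat.of k))} (z : T ⟶ Z), z ≫ e = lift (1 : T ⟶ G) z := fun z => by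
    simp [e, Hom.one_def]
  -- equivariance on points
  have hpts : ∀ {T : Over (Spec (CommRingCat.of k))} (g g' : T ⟶ G) (z : T ⟶ Z),
      lift (g * g') z ≫ j = lift g (lift g' z ≫ j) ≫ aY.act := fun g g' z => by
    have h1 : lift g (lift g' z) ≫ (G ◁ j) ≫ aY.act = lift g (lift g' z ≫ j) ≫ aY.act := by
      rw [lift_whiskerLeft_assoc]
    rw [← h1, ← show ((NonAbH1.trivialAction G).prod (AlgGrp.Action.trivial G Z)).act ≫ j = _ from heq,
      ← Category.assoc, AlgGrp.Action.lift_prod_act, AlgGrp.Action.lift_trivial_act]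
    rfl
  have hπ : ∀ {T : Over (Spec (CommRingCat.of k))} (g : T ⟶ G) (y : T ⟶ Y),
      (lift g y ≫ aY.act) ≫ πY = y ≫ πY := fun g y => by
    rw [Category.assoc, show aY.act ≫ πY = snd G Y ≫ πY from hQ.1, ← Category.assoc, lift_snd]
  have hgz : ∀ {T : Over (Spec (CommRingCat.of k))} (g : T ⟶ G) (z : T ⟶ Z),
      (lift g z ≫ j) ≫ πY = (lift (1 : T ⟶ G) z ≫ j) ≫ πY := fun g z => by
    conv_lhs => rw [← _root_.mul_one g, hpts]
    exact hπ _ _
  -- the two maps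
  have hφ : GIT.IsInvariant aZ (e ≫ j ≫ πY) := by
    show aZ.act ≫ e ≫ j ≫ πY = snd H Z ≫ e ≫ j ≫ πY
    rw [← Category.assoc, he, ← Category.assoc (snd H Z), he]
    have h2 : lift (fst H Z) (lift (fst H Z ≫ i) (snd H Z)) ≫ (ChGrp.twist i aZ).act = lift 1 aZ.act := by
      rw [ChGrp.lift_twist_act, mul_inv_cancel, lift_fst_snd, Category.id_comp]
    have h3 : lift (1 : H ⊗ Z ⟶ G) aZ.act ≫ j = lift (fst H Z ≫ i) (snd H Z) ≫ j := by
      rw [← h2, Category.assoc, hcart.w, ← Category.assoc, lift_snd]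
    rw [← Category.assoc, h3, hgz, Category.assoc]
  obtain ⟨φ, hφ', -⟩ := hP.2 Q _ hφ
  have hχ0 : GIT.IsInvariant (ChGrp.twist i aZ) (snd G Z ≫ πZ) := by
    have h1 : lift (fst H (G ⊗ Z)) (lift (snd H (G ⊗ Z) ≫ fst G Z) (snd H (G ⊗ Z) ≫ snd G Z)) = 𝟙 _ := by
      refine CartesianMonoidalCategory.hom_ext _ _ (by simp) ?_
      rw [lift_snd, Category.id_comp, ← comp_lift, lift_fst_snd, Category.comp_id]
    show (ChGrp.twist i aZ).act ≫ _ = snd H (G ⊗ Z) ≫ _
    conv_lhs => rw [← Category.id_comp (ChGrp.twist i aZ).act, ← h1, ChGrp.lift_twist_act]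
    rw [lift_snd_assoc, Category.assoc, show aZ.act ≫ πZ = snd H Z ≫ πZ from hP.1, lift_snd_assoc, Category.assoc]
  obtain ⟨χY, hχY, -⟩ := hj.2 P _ hχ0
  have hχinv : GIT.IsInvariant aY χY := by
    haveI : Epi (G ◁ j) := by
      have hL := ((isPullback_whiskerLeft (G := G) j).map (Over.forget _))
      haveI : Flat (G ◁ j).left := MorphismProperty.of_isPullback hL ‹Flat j.left›
      haveI : Surjective (G ◁ j).left := MorphismProperty.of_isPullback hL ‹Surjective j.left›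
      haveI : QuasiCompact (G ◁ j).left := MorphismProperty.of_isPullback hL (inferInstanceAs (QuasiCompact j.left))
      haveI : Epi (G ◁ j).left := inferInstance
      exact Over.epi_of_epi_left _
    show aY.act ≫ χY = snd G Y ≫ χY
    rw [← cancel_epi (G ◁ j), ← Category.assoc, ← show ((NonAbH1.trivialAction G).prod (AlgGrp.Action.trivial G Z)).act ≫ j = _ from heq,
      Category.assoc, hχY, whiskerLeft_snd_assoc, hχY, AlgGrp.Action.prod_act, lift_snd_assoc, Category.assoc]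
    show (G ◁ snd G Z) ≫ snd G Z ≫ πZ = _
    rw [whiskerLeft_snd_assoc]
  obtain ⟨χ, hχ, -⟩ := hQ.2 P _ hχinv
  have hjχ : j ≫ πY ≫ χ = snd G Z ≫ πZ := by rw [hχ, hχY]
  refine ⟨φ, χ, ?_, ?_, hφ', hjχ⟩
  · refine (hP.2 P πZ hP.1).unique ?_ (Category.comp_id _)
    rw [← Category.assoc, hφ', Category.assoc, Category.assoc, hjχ, ← Category.assoc, lift_snd, Category.id_comp]
  · refine (hQ.2 Q πY hQ.1).unique ?_ (Category.comp_id _)
    have hinvY : GIT.IsInvariant (ChGrp.twist i aZ) (j ≫ πY) := by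
      show _ ≫ j ≫ πY = _ ≫ j ≫ πY
      rw [← Category.assoc, hcart.w, Category.assoc]
    refine (hj.2 Q (j ≫ πY) hinvY).unique ?_ rfl
    rw [← Category.assoc πY χ φ, ← Category.assoc j, hjχ, Category.assoc, hφ', ← Category.assoc, he]
    rw [← Category.assoc, ← hgz (fst G Z) (snd G Z), lift_fst_snd, Category.id_comp]

end FibBCLib
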