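import Groth.Agent.GLinShLib.StabLocus
import Groth.Agent.GrpSchLib.Cartier
import Groth.Agent.S3042
import Groth.Agent.AlgSpLib.ReducedSmooth
import Groth.Prelude.Def_ActBC
import Mathlib

/-! Free actions: trivial stabilisers. -/

set_option autoImplicit false
set_option backward.isDefEq.respectTransparency false
set_option maxHeartbeats 1000000

universe u

noncomputable section

open CategoryTheory CategoryTheory.Limits MonoidalCategory CartesianMonoidalCategory MonObj AlgebraicGeometry
open scoped MonObj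

namespace FibBCLib

section Mono

variable {S : Scheme.{u}} {G X : Over S} [GrpObj G] (a : AlgGrp.Action G X)

/-- With trivial stabilisers the shear map is a monomorphism. -/
theorem mono_psi [Mono (GLinSh.stabTo a (𝟙 X))] : Mono (GIT.psi a (𝟙 X)).left := by
  suffices Mono (GIT.psi a (𝟙 X)) from inferInstance
  refine ⟨fun {T} z₁ z₂ h => ?_⟩
  have hz : ∀ z : T ⟶ G ⊗ X, z ≫ GIT.psi a (𝟙 X) = lift (lift (z ≫ fst G X) (z ≫ snd G X) ≫ a.act) (z ≫ snd G X) :=
    fun z => by
    refine CartesianMonoidalCategory.hom_ext _ _ ?_ ?_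
    · simp [GIT.psi, ← comp_lift]
    · simp [GIT.psi]
  rw [hz, hz] at h
  have hx : z₁ ≫ snd G X = z₂ ≫ snd G X := by simpa using congrArg (· ≫ snd X X) h
  have hg : lift (z₁ ≫ fst G X) (z₁ ≫ snd G X) ≫ a.act = lift (z₂ ≫ fst G X) (z₁ ≫ snd G X) ≫ a.act := by
    simpa [hx] using congrArg (· ≫ fst X X) h
  set g₁ := z₁ ≫ fst G X
  set g₂ := z₂ ≫ fst G X
  set x := z₁ ≫ snd G X
  have hk : lift (g₂⁻¹ * g₁) x ≫ GIT.psi a (𝟙 X) = x ≫ lift (𝟙 X) (𝟙 X) := by
    refine CartesianMonoidalCategory.hom_ext _ _ ?_ ?_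
    · have e := AlgGrp.Action.lift_mul_act a g₂⁻¹ g₁ x
      rw [hg, ← AlgGrp.Action.lift_mul_act, inv_mul_cancel, AlgGrp.Action.lift_one_act] at e
      simpa [GIT.psi] using e
    · simp [GIT.psi]
  let w : T.left ⟶ GLinSh.stab a (𝟙 X) := pullback.lift (lift (g₂⁻¹ * g₁) x).left x.left (congrArg CommaMorphism.left hk)
  have hw : w = x.left ≫ GLinShLib.unitSec a (𝟙 X) := by
    rw [← cancel_mono (GLinSh.stabTo a (𝟙 X)), Category.assoc, GLinShLib.unitSec_stabTo, Category.comp_id]
    exact pullback.lift_snd _ _ _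
  have h1 : (lift (g₂⁻¹ * g₁) x).left = (x ≫ lift (1 : X ⟶ G) (𝟙 X)).left := by
    have e := congrArg (· ≫ pullback.fst (GIT.psi a (𝟙 X)).left (lift (𝟙 X) (𝟙 X)).left) hw
    simp only [w, GLinShLib.unitSec, pullback.lift_fst, Category.assoc] at e
    exact e
  have h2 : g₂⁻¹ * g₁ = 1 := by
    have e := congrArg (· ≫ fst G X) (Over.OverMorphism.ext h1)
    simpa [MonObj.comp_one] using e
  refine CartesianMonoidalCategory.hom_ext _ _ ?_ ?_
  · exact (inv_mul_eq_one.1 h2).symm
  · exact hx

/-- The stabiliser of a free action is trivial. -/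
theorem isIso_stabTo (f : X ⟶ X := 𝟙 X) [Mono (GLinSh.stabTo a f)] : IsIso (GLinSh.stabTo a f) := by
  haveI : IsSplitEpi (GLinSh.stabTo a f) := ⟨⟨⟨GLinShLib.unitSec a f, GLinShLib.unitSec_stabTo a f⟩⟩⟩
  exact isIso_of_mono_of_isSplitEpi _

end Mono

theorem universallyInjective_of_mono {X Y : Scheme.{u}} (f : X ⟶ Y) [Mono f] : UniversallyInjective f := by
  haveI : IsIso (pullback.diagonal f) := (pullback.isIso_diagonal_iff f).mpr inferInstance
  rw [UniversallyInjective.iff_diagonal]
  infer_instance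

theorem mono_of_unramified {X Y : Scheme.{u}} (f : X ⟶ Y) [LocallyOfFiniteType f] [FormallyUnramified f]
    [UniversallyInjective f] : Mono f := by
  have h : Surjective (pullback.diagonal f) := (UniversallyInjective.iff_diagonal f).mp inferInstance
  rw [← pullback.isIso_diagonal_iff, isIso_iff_isOpenImmersion_and_surjective]
  exact ⟨inferInstance, h⟩

variable {k : Type u} [Field k] {G X : Over (Spec (CommRingCat.of k))} [GrpObj G] (a : AlgGrp.Action G X)

theorem mono_stabTo_of_fibres [LocallyOfFiniteType (GLinSh.stabTo a (𝟙 X))]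
    (h : ∀ x : ↥X.left, IsIso ((GLinSh.stabTo a (𝟙 X)).fiberToSpecResidueField x)) :
    Mono (GLinSh.stabTo a (𝟙 X)) :=
  (Groth.Agent.S3042.result _ _ _).2 fun x => haveI := h x; inferInstance

theorem fibres_of_mono [Mono (GLinSh.stabTo a (𝟙 X))] (x : ↥X.left) :
    IsIso ((GLinSh.stabTo a (𝟙 X)).fiberToSpecResidueField x) := by
  haveI := isIso_stabTo a
  change IsIso (pullback.snd (GLinSh.stabTo a (𝟙 X)) (X.left.fromSpecResidueField x))
  infer_instance

/-- Over a field of characteristic zero a universally injective stabiliser is trivial. -/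
theorem isIso_stab_point [CharZero k] [IsAffine G.left] [LocallyOfFiniteType G.hom] [QuasiSeparated X.hom]
    {κ : Type u} [Field κ] (t : Spec (CommRingCat.of κ) ⟶ Spec (CommRingCat.of k)) (f : Over.mk t ⟶ X)
    [UniversallyInjective (GLinSh.stabTo a f)] : IsIso (GLinSh.stabTo a f) := by
  haveI : CharZero κ := by
    obtain ⟨φ, rfl⟩ := Spec.map_surjective t
    exact charZero_of_injective_ringHom φ.hom.injective
  haveI : QuasiCompact G.hom := inferInstance
  haveI := (GLinShLib.locallyOfFiniteType_stabTo a f).1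
  let P : Scheme.{u} := GLinSh.stab a f
  let q : P ⟶ Spec (CommRingCat.of κ) := GLinSh.stabTo a f
  let j : P ⟶ pullback G.hom t := pullback.fst (GIT.psi a f).left (lift f (𝟙 (Over.mk t))).left
  haveI : Mono j := GLinShLib.mono_fst a f
  have hps : GIT.psi a f ≫ snd X (Over.mk t) = snd G (Over.mk t) := by simp [GIT.psi]
  have hj : j ≫ pullback.snd G.hom t = q := by
    have e : (GIT.psi a f).left ≫ (snd X (Over.mk t)).left = pullback.snd G.hom t := by
      rw [← Over.comp_left, hps]; rfl
    rw [← e, ← Category.assoc, pullback.condition, Category.assoc, ← Over.comp_left, lift_snd, Over.id_left]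
    exact Category.comp_id _
  let W : Over (Spec (CommRingCat.of κ)) := Over.mk q
  let iW : W ⟶ Red.bc t G := Over.homMk j hj
  haveI : Mono iW.left := ‹Mono j›
  haveI : Mono iW := Over.mono_of_mono_left _
  let pt : ∀ {U : Over (Spec (CommRingCat.of κ))}, (U ⟶ Red.bc t G) → ((Over.map t).obj U ⟶ G) :=
    fun {U} z => ((Over.mapPullbackAdj t).homEquiv U G).symm z
  let tU : ∀ U : Over (Spec (CommRingCat.of κ)), (Over.map t).obj U ⟶ Over.mk t := fun U => Over.homMk U.hom
  have hpt : ∀ {U : Over (Spec (CommRingCat.of κ))} (z : U ⟶ Red.bc t G),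
      z.left = (lift (pt z) (tU U)).left := fun {U} z => by
    refine pullback.hom_ext ?_ ?_
    · refine Eq.trans ?_ (congrArg CommaMorphism.left (lift_fst (pt z) (tU U))).symm
      simp [pt, Adjunction.homEquiv_counit, Over.mapPullbackAdj]
    · refine Eq.trans ?_ (congrArg CommaMorphism.left (lift_snd (pt z) (tU U))).symm
      exact Over.w z
  let Fix : ∀ {U : Over (Spec (CommRingCat.of κ))}, (U ⟶ Red.bc t G) → Prop :=
    fun {U} z => lift (pt z) (tU U ≫ f) ≫ a.act = tU U ≫ f
  have hfix : ∀ {U : Over (Spec (CommRingCat.of κ))} (z : U ⟶ Red.bc t G), Fix z ↔ ∃ w : U ⟶ W, w ≫ iW = z := by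
    intro U z
    have e1 : lift (pt z) (tU U) ≫ GIT.psi a f = lift (lift (pt z) (tU U ≫ f) ≫ a.act) (tU U) := by
      refine CartesianMonoidalCategory.hom_ext _ _ ?_ ?_ <;> simp [GIT.psi]
    have e2 : tU U ≫ lift f (𝟙 (Over.mk t)) = lift (tU U ≫ f) (tU U) := by simp
    constructor
    · intro hz
      have hc : z.left ≫ (GIT.psi a f).left = U.hom ≫ (lift f (𝟙 (Over.mk t))).left := by
        rw [hpt z, ← Over.comp_left, e1, show lift (pt z) (tU U ≫ f) ≫ a.act = tU U ≫ f from hz, ← e2]
        rfl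
      refine ⟨Over.homMk (pullback.lift z.left U.hom hc) (pullback.lift_snd _ _ _), ?_⟩
      ext1
      exact pullback.lift_fst _ _ _
    · rintro ⟨w, rfl⟩
      have hc : (w ≫ iW).left ≫ (GIT.psi a f).left = U.hom ≫ (lift f (𝟙 (Over.mk t))).left := by
        show (w.left ≫ pullback.fst _ _) ≫ _ = _
        rw [Category.assoc, pullback.condition, ← Category.assoc]
        exact congrArg (· ≫ _) (Over.w w)
      rw [hpt] at hc
      have h3 : lift (pt (w ≫ iW)) (tU U) ≫ GIT.psi a f = tU U ≫ lift f (𝟙 (Over.mk t)) := Over.OverMorphism.ext hc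
      rw [e1, e2] at h3
      have h4 := congrArg (· ≫ fst X (Over.mk t)) h3
      simp only [lift_fst] at h4
      exact h4
  have pt_mul : ∀ {U : Over (Spec (CommRingCat.of κ))} (z z' : U ⟶ Red.bc t G), pt (z * z') = pt z * pt z' :=
    fun {U} z z' => by
    simp only [pt, Equiv.symm_apply_eq, AlgGrp.Action.homEquiv_mul, Equiv.apply_symm_apply]
  have pt_one : ∀ {U : Over (Spec (CommRingCat.of κ))}, pt (1 : U ⟶ Red.bc t G) = 1 := fun {U} =>
    mul_right_cancel (b := pt (1 : U ⟶ Red.bc t G)) (by rw [← pt_mul, _root_.one_mul, _root_.one_mul])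
  let Sub : ∀ U : Over (Spec (CommRingCat.of κ)), Subgroup (U ⟶ Red.bc t G) := fun U =>
    { carrier := {z | Fix z}
      one_mem' := by
        show lift (pt 1) (tU U ≫ f) ≫ a.act = tU U ≫ f
        rw [pt_one, AlgGrp.Action.lift_one_act]
      mul_mem' := fun {z z'} hz hz' => by
        show lift (pt (z * z')) (tU U ≫ f) ≫ a.act = tU U ≫ f
        rw [pt_mul, AlgGrp.Action.lift_mul_act, show lift (pt z') (tU U ≫ f) ≫ a.act = _ from hz']
        exact hz
      inv_mem' := fun {z} hz => by
        show lift (pt z⁻¹) (tU U ≫ f) ≫ a.act = tU U ≫ f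
        conv_lhs => rw [← show lift (pt z) (tU U ≫ f) ≫ a.act = tU U ≫ f from hz]
        rw [← AlgGrp.Action.lift_mul_act, ← pt_mul, inv_mul_cancel, pt_one, AlgGrp.Action.lift_one_act] }
  let Φ : (Over (Spec (CommRingCat.of κ)))ᵒᵖ ⥤ GrpCat.{u} :=
    { obj := fun T => GrpCat.of (Sub T.unop)
      map := fun {T U} g => GrpCat.ofHom (MonoidHom.mk' (fun x => ⟨g.unop ≫ x.1, by
          obtain ⟨w, hw⟩ := (hfix x.1).1 x.2
          exact (hfix _).2 ⟨g.unop ≫ w, by rw [Category.assoc, hw]⟩⟩)
        fun x y => Subtype.ext (MonObj.comp_mul _ _ _))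
      map_id := fun T => GrpCat.hom_ext (MonoidHom.ext fun x => Subtype.ext (Category.id_comp x.1))
      map_comp := fun g h => GrpCat.hom_ext (MonoidHom.ext fun x => Subtype.ext (Category.assoc _ _ _)) }
  let α : (Φ ⋙ forget _).RepresentableBy W :=
    { homEquiv := fun {T} => Equiv.ofBijective (fun w => (⟨w ≫ iW, (hfix _).2 ⟨w, rfl⟩⟩ : Sub T))
        ⟨fun b c h => (cancel_mono iW).1 (congrArg Subtype.val h), fun x => by
          obtain ⟨w, hw⟩ := (hfix x.1).1 x.2
          exact ⟨w, Subtype.ext hw⟩⟩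
      homEquiv_comp := fun h g => Subtype.ext (Category.assoc _ _ _) }
  letI : GrpObj W := GrpObj.ofRepresentableBy W Φ α
  haveI : LocallyOfFiniteType W.hom := ‹LocallyOfFiniteType (GLinSh.stabTo a f)›
  have hsm : Smooth W.hom := Groth.Agent.GrpSchLib.smooth_of_charZero W
  haveI : Smooth q := hsm
  haveI : IsReduced P := AlgSpLib.isReduced_of_smooth q
  let e : Spec (CommRingCat.of κ) ⟶ P := GLinShLib.unitSec a f
  have he : e ≫ q = 𝟙 _ := GLinShLib.unitSec_stabTo a f
  haveI : Subsingleton P := (show UniversallyInjective q from inferInstance) |> fun _ => q.injective.subsingleton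
  haveI : Surjective e := ⟨fun p => ⟨IsLocalRing.closedPoint κ, Subsingleton.elim _ _⟩⟩
  haveI : IsSeparated (pullback.snd G.hom t) := inferInstance
  haveI : IsSeparated q := by rw [← hj]; infer_instance
  haveI : IsClosedImmersion (e ≫ q) := by rw [he]; infer_instance
  haveI : IsClosedImmersion e := IsClosedImmersion.of_comp e q
  haveI : IsIso e := isIso_of_isClosedImmersion_of_surjective e
  show IsIso q
  rw [show q = inv e from IsIso.eq_inv_of_hom_inv_id he]
  infer_instance

theorem lft_stabTo [IsAffine G.left] [LocallyOfFiniteType G.hom] [QuasiSeparated X.hom] :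
    LocallyOfFiniteType (GLinSh.stabTo a (𝟙 X)) :=
  haveI : QuasiCompact G.hom := inferInstance
  (GLinShLib.locallyOfFiniteType_stabTo a (𝟙 X)).1

theorem mono_stabTo_of_universallyInjective [IsAffine G.left] [LocallyOfFiniteType G.hom] [IsSeparated X.hom]
    (hG : CharZero k ∨ (IsFinite G.hom ∧ Etale G.hom)) [UniversallyInjective (GLinSh.stabTo a (𝟙 X))] :
    Mono (GLinSh.stabTo a (𝟙 X)) := by
  haveI := lft_stabTo a
  rcases hG with hk | ⟨-, hE⟩
  · refine mono_stabTo_of_fibres a fun x => ?_
    let t := X.left.fromSpecResidueField x ≫ X.hom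
    let f : Over.mk t ⟶ X := Over.homMk (X.left.fromSpecResidueField x)
    obtain ⟨r, hr, -⟩ := GLinShLib.isPullback_stab a f
    haveI : UniversallyInjective (GLinSh.stabTo a f) :=
      MorphismProperty.of_isPullback (P := @UniversallyInjective) hr inferInstance
    haveI := isIso_stab_point a (κ := X.left.residueField x) t f
    have e : hr.isoPullback.hom ≫ (GLinSh.stabTo a (𝟙 X)).fiberToSpecResidueField x = GLinSh.stabTo a f :=
      hr.isoPullback_hom_snd
    rw [← Iso.eq_inv_comp] at e
    rw [e]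
    infer_instance
  · haveI : Etale (snd G X).left := by
      rw [Over.snd_left]
      exact MorphismProperty.pullback_snd _ _ hE
    haveI : IsClosedImmersion (lift (𝟙 X) (𝟙 X)).left := by
      have : (lift (𝟙 X) (𝟙 X)).left = pullback.diagonal X.hom := by
        refine pullback.hom_ext ?_ ?_ <;> simp
      rw [this]
      exact IsSeparated.diagonal_isClosedImmersion
    let j := pullback.fst (GIT.psi a (𝟙 X)).left (lift (𝟙 X) (𝟙 X)).left
    have hj : j ≫ (snd G X).left = GLinSh.stabTo a (𝟙 X) := by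
      rw [show snd G X = GIT.psi a (𝟙 X) ≫ snd X X by simp [GIT.psi], Over.comp_left, ← Category.assoc,
        pullback.condition, Category.assoc, ← Over.comp_left, lift_snd, Over.id_left, Category.comp_id]
      rfl
    haveI : IsClosedImmersion j := MorphismProperty.pullback_fst _ _ inferInstance
    haveI : FormallyUnramified (GLinSh.stabTo a (𝟙 X)) := by
      rw [← hj]
      haveI : Etale (pullback.snd G.hom X.hom) := MorphismProperty.pullback_snd _ _ hE
      haveI h1 : FormallyUnramified j := inferInstance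
      haveI h2 : FormallyUnramified (snd G X).left := inferInstanceAs (FormallyUnramified (pullback.snd G.hom X.hom))
      exact MorphismProperty.comp_mem @FormallyUnramified _ _ h1 h2
    exact mono_of_unramified _

end FibBCLib
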