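import Groth.Agent.FibBCLib.Basic
import Groth.Agent.LocFFLib.Basic
import Groth.Prelude.Def_W4bk4git07Quot

/-! Geometric quotients of normal varieties are normal. -/

set_option autoImplicit false
universe u

noncomputable section

open CategoryTheory CategoryTheory.Limits MonoidalCategory CartesianMonoidalCategory AlgebraicGeometry TopologicalSpace

namespace FibBCLib

theorem eq_of_flat_mul {P X : Scheme.{u}} [IsIntegral X] (π : P ⟶ X) [Flat π] {Z : X.Opens} {W : P.Opens}
    (hle : W ≤ π ⁻¹ᵁ Z) {A : Γ(X, Z)} (hA : A ≠ 0) {z : Γ(P, W)} (hz : π.appLE Z W hle A * z = 0) : z = 0 := by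
  refine TopCat.Presheaf.section_ext P.sheaf W z 0 fun w hw => ?_
  obtain ⟨V, hV, hwV, hVZ⟩ := exists_isAffineOpen_mem_and_subset (x := π w) (U := Z) (hle hw)
  obtain ⟨W', hW', hwW', hW'le⟩ := exists_isAffineOpen_mem_and_subset (x := w) (U := W ⊓ π ⁻¹ᵁ V) ⟨hw, hwV⟩
  have hW'W : W' ≤ W := fun x hx => (hW'le hx).1
  have hW'V : W' ≤ π ⁻¹ᵁ V := fun x hx => (hW'le hx).2
  algebraize [(π.appLE V W' hW'V).hom]
  haveI : Nonempty V := ⟨⟨_, hwV⟩⟩
  haveI : Module.Flat Γ(X, V) Γ(P, W') :=
    (RingHom.flat_algebraMap_iff.mp (π.flat_appLE hV hW' hW'V))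
  let A' : Γ(X, V) := X.presheaf.map (homOfLE hVZ).op A
  have hA' : A' ≠ 0 := fun h => hA (map_injective_of_isIntegral X (homOfLE hVZ) (h.trans (map_zero _).symm))
  let z' : Γ(P, W') := P.presheaf.map (homOfLE hW'W).op z
  have h1 : algebraMap Γ(X, V) Γ(P, W') A' * z' = 0 := by
    have h2 := congrArg (P.presheaf.map (homOfLE hW'W).op).hom hz
    rw [map_mul, map_zero, ← CommRingCat.comp_apply, Scheme.Hom.appLE_map] at h2
    show (X.presheaf.map _ ≫ π.appLE V W' hW'V) A * _ = 0
    rw [Scheme.Hom.map_appLE]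
    exact h2
  have hz' : z' = 0 := by
    have hr : IsSMulRegular Γ(P, W') A' := IsSMulRegular.of_flat (IsLeftRegular.isSMulRegular (mul_right_injective₀ hA'))
    exact hr (by show A' • z' = A' • 0; rw [smul_zero, Algebra.smul_def, h1])
  have h3 := congrArg (P.presheaf.germ W' w hwW').hom hz'
  erw [TopCat.Presheaf.germ_res_apply, map_zero] at h3
  erw [map_zero]
  exact h3

theorem normal_of_geomQuot (k : Type u) [Field k] (G X Y : Over (Spec (CommRingCat.of k))) [GrpObj G]
    [IsIntegral X.left] (hX : Pi1.IsNormalScheme X.left) (a : AlgGrp.Action G X) (φ : X ⟶ Y)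
    (h : GIT.IsGeomQuot a φ) : Pi1.IsNormalScheme Y.left := by
  have : Surjective φ.left := ⟨h.surj⟩
  have : IsReduced Y.left := ⟨fun V => isReduced_of_injective (φ.left.app V).hom (h.sections V).1⟩
  have : IrreducibleSpace Y.left :=
    { toPreirreducibleSpace := Function.Surjective.preirreducibleSpace φ.left.continuous φ.left.surjective
      toNonempty := ⟨φ.left (Classical.arbitrary X.left)⟩ }
  have : IsIntegral Y.left := isIntegral_of_irreducibleSpace_of_isReduced Y.left
  have : Flat (snd G X).left := by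
    have : Flat G.hom := inferInstance
    change Flat (pullback.snd G.hom X.hom)
    infer_instance
  rw [LocFFLib.isNormal_iff]
  intro U hne hU
  obtain ⟨⟨y, hy⟩⟩ := hne
  haveI : Nonempty U := ⟨⟨y, hy⟩⟩
  obtain ⟨x, hx⟩ := h.surj y
  haveI : Nonempty (φ.left ⁻¹ᵁ U) := ⟨⟨x, show φ.left x ∈ U from hx ▸ hy⟩⟩
  haveI := LocFFLib.isIntegrallyClosed_sections hX (φ.left ⁻¹ᵁ U)
  let R := Γ(Y.left, U)
  let S := Γ(X.left, φ.left ⁻¹ᵁ U)
  let i : R →+* S := (φ.left.app U).hom
  letI := i.toAlgebra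
  have hinj : Function.Injective (algebraMap R S) := (h.sections U).1
  let K := FractionRing R
  let L := FractionRing S
  rw [isIntegrallyClosed_iff K]
  intro q hq
  obtain ⟨⟨b, d⟩, hbd⟩ := IsLocalization.surj (nonZeroDivisors R) q
  let j : K →ₐ[R] L := IsFractionRing.liftAlgHom (g := Algebra.ofId R L)
    ((IsFractionRing.injective S L).comp hinj)
  obtain ⟨c, hc⟩ := IsIntegrallyClosed.isIntegral_iff.1 ((hq.map j).tower_top (A := S))
  have hcd : c * i d = i b := by
    refine IsFractionRing.injective S L ?_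
    rw [map_mul, hc]
    have := congrArg j hbd
    rw [map_mul, j.commutes, j.commutes] at this
    exact this
  have hd : i (d : R) ≠ 0 := fun h0 => nonZeroDivisors.coe_ne_zero d (hinj (h0.trans (map_zero i).symm))
  have hinv : ∀ r : R, GIT.IsInvSection a φ U (i r) := fun r =>
    (Set.ext_iff.1 (h.sections U).2 (i r)).1 ⟨r, rfl⟩
  have hcinv : GIT.IsInvSection a φ U c := by
    have hb := hinv b
    have hd' := hinv d
    unfold GIT.IsInvSection at hb hd' ⊢
    rw [← hcd, map_mul, map_mul, hd'] at hb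
    refine sub_eq_zero.1 (eq_of_flat_mul (snd G X).left inf_le_right hd (z := _ - _) ?_)
    rw [mul_sub, sub_eq_zero, mul_comm, hb, mul_comm]
  obtain ⟨r, hr⟩ := (Set.ext_iff.1 (h.sections U).2 c).2 hcinv
  refine ⟨r, (IsLocalization.map_units K d).mul_left_injective ?_⟩
  show algebraMap R K r * algebraMap R K d = q * algebraMap R K d
  rw [hbd, ← map_mul]
  congr 1
  refine hinj ?_
  show i (r * d) = i b
  rw [map_mul, show i r = c from hr, hcd]

end FibBCLib
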