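import Groth.Prelude.Def_W4bk4git07Quot
import Mathlib

/-! Geometric quotients: flat free quotients, universal openness. -/

set_option autoImplicit false
universe u

noncomputable section

open CategoryTheory CategoryTheory.Limits MonoidalCategory CartesianMonoidalCategory AlgebraicGeometry TopologicalSpace Opposite

namespace FibBCLib

theorem app_injective_of_flat {X Y : Scheme.{u}} (f : X ⟶ Y) [Flat f] [Surjective f] (D : Y.Opens) :
    Function.Injective (f.app D) := by
  intro s t h
  refine TopCat.Presheaf.section_ext Y.sheaf D s t fun y hy => ?_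
  obtain ⟨x, rfl⟩ := f.surjective y
  algebraize [(f.stalkMap x).hom]
  have : Module.FaithfullyFlat (Y.presheaf.stalk (f x)) (X.presheaf.stalk x) :=
    @Module.FaithfullyFlat.of_flat_of_isLocalHom _ _ _ _ _ _ _ (Flat.stalkMap f x) (f.toLRSHom.prop x)
  refine (‹RingHom.FaithfullyFlat _› : (f.stalkMap x).hom.FaithfullyFlat).injective ?_
  show f.stalkMap x (Y.presheaf.germ D (f x) hy s) = f.stalkMap x (Y.presheaf.germ D (f x) hy t)
  rw [Scheme.Hom.germ_stalkMap_apply, Scheme.Hom.germ_stalkMap_apply, h]

/-- A global function with equal pullbacks to the kernel pair descends along an effective epimorphism. -/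
theorem exists_descend_function {U V : Scheme.{u}} (q : U ⟶ V) [EffectiveEpi q] (u : Γ(U, ⊤))
    (h : (pullback.fst q q).appTop u = (pullback.snd q q).appTop u) : ∃ v : Γ(V, ⊤), q.appTop v = u := by
  let R : CommRingCat.{u} := CommRingCat.of (Polynomial (ULift.{u} ℤ))
  let ev : R ⟶ Γ(U, ⊤) := CommRingCat.ofHom (Polynomial.eval₂RingHom ((Int.castRingHom _).comp ULift.ringEquiv.toRingHom) u)
  let g : U ⟶ Spec R := U.toSpecΓ ≫ Spec.map ev
  have hg : ∀ {Z : Scheme.{u}} (g₁ : Z ⟶ U), g₁ ≫ g = Z.toSpecΓ ≫ Spec.map (ev ≫ g₁.appTop) := fun g₁ => by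
    rw [Spec.map_comp, ← Category.assoc, ← Category.assoc, Scheme.toSpecΓ_naturality]
  have hev : ev ≫ (pullback.fst q q).appTop = ev ≫ (pullback.snd q q).appTop := by
    refine CommRingCat.hom_ext (Polynomial.ringHom_ext (fun a => ?_) ?_)
    · obtain ⟨z⟩ := a
      show (pullback.fst q q).appTop (Polynomial.eval₂ _ u (Polynomial.C _)) =
        (pullback.snd q q).appTop (Polynomial.eval₂ _ u (Polynomial.C _))
      rw [Polynomial.eval₂_C]
      simp
    · show (pullback.fst q q).appTop (Polynomial.eval₂ _ u Polynomial.X) =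
        (pullback.snd q q).appTop (Polynomial.eval₂ _ u Polynomial.X)
      rw [Polynomial.eval₂_X, h]
  have hl : ∀ {Z : Scheme.{u}} (g₁ g₂ : Z ⟶ U), g₁ ≫ q = g₂ ≫ q → g₁ ≫ g = g₂ ≫ g := fun g₁ g₂ e => by
    rw [← pullback.lift_fst g₁ g₂ e, Category.assoc, hg, hev, ← hg, ← Category.assoc, pullback.lift_snd]
  have h1 : q.appTop.hom.comp (EffectiveEpi.desc q g hl).appTop.hom = g.appTop.hom := by
    rw [← CommRingCat.hom_comp, ← Scheme.Hom.comp_appTop, EffectiveEpi.fac]
  have h2 : g.appTop.hom ((Scheme.ΓSpecIso R).inv Polynomial.X) = u := by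
    show (U.toSpecΓ ≫ Spec.map ev).appTop ((Scheme.ΓSpecIso R).inv Polynomial.X) = u
    rw [Scheme.Hom.comp_appTop, CommRingCat.comp_apply, Scheme.toSpecΓ_appTop, ← CommRingCat.comp_apply,
      ← CommRingCat.comp_apply, ← Category.assoc, ← Scheme.ΓSpecIso_inv_naturality, Category.assoc, Iso.inv_hom_id,
      Category.comp_id]
    exact Polynomial.eval₂_X _ _
  exact ⟨_, (RingHom.congr_fun h1 _).trans h2⟩

variable {k : Type u} [Field k] {G X Y : Over (Spec (CommRingCat.of k))} [GrpObj G]
  (a : AlgGrp.Action G X) (φ : X ⟶ Y)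

theorem appLE_congr {P Q : Scheme.{u}} {f g : P ⟶ Q} (e : f = g) {U : Q.Opens} {V : P.Opens} (h₁ : V ≤ f ⁻¹ᵁ U)
    (h₂ : V ≤ g ⁻¹ᵁ U) (x : Γ(Q, U)) : f.appLE U V h₁ x = g.appLE U V h₂ x := by
  subst e; rfl

theorem isClosedImmersion_psi [IsSeparated Y.hom] (hinv : GIT.IsInvariant a φ) (hcart : IsIso (GIT.PsiY a φ hinv)) :
    IsClosedImmersion (GIT.psi a (𝟙 X)).left := by
  let m : pullback φ.left φ.left ⟶ (X ⊗ X).left :=
    pullback.mapDesc φ.left φ.left Y.hom ≫ (pullback.congrHom (Over.w φ) (Over.w φ)).hom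
  have e : (GIT.psi a (𝟙 X)).left = GIT.PsiY a φ hinv ≫ m := by
    have m1 : m ≫ pullback.fst X.hom X.hom = pullback.fst φ.left φ.left := by
      dsimp [m, pullback.mapDesc, pullback.congrHom]
      erw [Category.assoc, pullback.lift_fst, Category.comp_id, pullback.lift_fst, Category.comp_id]
    have m2 : m ≫ pullback.snd X.hom X.hom = pullback.snd φ.left φ.left := by
      dsimp [m, pullback.mapDesc, pullback.congrHom]
      erw [Category.assoc, pullback.lift_snd, Category.comp_id, pullback.lift_snd, Category.comp_id]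
    have p1 : GIT.psi a (𝟙 X) ≫ fst X X = a.act := by simp [GIT.psi]
    have p2 : GIT.psi a (𝟙 X) ≫ snd X X = snd G X := by simp [GIT.psi]
    have q1 : (GIT.psi a (𝟙 X)).left ≫ pullback.fst X.hom X.hom = a.act.left := congrArg CommaMorphism.left p1
    have q2 : (GIT.psi a (𝟙 X)).left ≫ pullback.snd X.hom X.hom = (snd G X).left := congrArg CommaMorphism.left p2
    refine pullback.hom_ext ?_ ?_
    · erw [q1, Category.assoc, m1]
      exact (pullback.lift_fst _ _ _).symm
    · erw [q2, Category.assoc, m2]
      exact (pullback.lift_snd _ _ _).symm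
  rw [e]
  infer_instance

theorem isGeomQuot_of_flat [QuasiCompact φ.left] (hinv : GIT.IsInvariant a φ) [Flat φ.left]
    [Surjective φ.left] (hcart : IsIso (GIT.PsiY a φ hinv)) : GIT.IsGeomQuot a φ where
  inv := hinv
  surj := φ.left.surjective
  orbit := (inferInstance : Surjective (GIT.PsiY a φ hinv)).surj
  subm := by
    intro X' Y' i₁ i₂ f' h
    haveI : Flat f' := MorphismProperty.of_isPullback h.flip inferInstance
    haveI : Surjective f' := MorphismProperty.of_isPullback h.flip inferInstance
    haveI : QuasiCompact f' := MorphismProperty.of_isPullback h.flip inferInstance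
    exact Flat.isQuotientMap_of_surjective f'
  sections U := by
    refine ⟨app_injective_of_flat φ.left U, Set.ext fun c => ⟨?_, fun hc => ?_⟩⟩
    · rintro ⟨r, rfl⟩
      show GIT.IsInvSection a φ U _
      unfold GIT.IsInvSection
      simp only [Scheme.Hom.app_eq_appLE, ← CommRingCat.comp_apply, Scheme.Hom.appLE_comp_appLE]
      exact appLE_congr hinv.left _ _ r
    · let q : (φ.left ⁻¹ᵁ U : Scheme.{u}) ⟶ U := φ.left ∣_ U
      haveI : Flat q := IsZariskiLocalAtTarget.restrict (P := @Flat) ‹Flat φ.left› U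
      haveI : Surjective q := IsZariskiLocalAtTarget.restrict (P := @Surjective) ‹Surjective φ.left› U
      haveI : QuasiCompact q := IsZariskiLocalAtTarget.restrict (P := @QuasiCompact) ‹QuasiCompact φ.left› U
      let V := φ.left ⁻¹ᵁ U
      let uu : Γ((V : Scheme.{u}), ⊤) := V.ι.appLE V ⊤ (by simp) c
      let j : pullback q q ⟶ (G ⊗ X).left :=
        pullback.lift (pullback.fst q q ≫ V.ι) (pullback.snd q q ≫ V.ι) (by
          rw [Category.assoc, Category.assoc, ← morphismRestrict_ι, pullback.condition_assoc]) ≫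
          inv (GIT.PsiY a φ hinv)
      have hj1 : j ≫ a.act.left = pullback.fst q q ≫ V.ι := by
        rw [show a.act.left = GIT.PsiY a φ hinv ≫ pullback.fst _ _ from (pullback.lift_fst _ _ _).symm]
        simp only [j, Category.assoc, IsIso.inv_hom_id_assoc]
        exact pullback.lift_fst _ _ _
      have hj2 : j ≫ (snd G X).left = pullback.snd q q ≫ V.ι := by
        rw [show (snd G X).left = GIT.PsiY a φ hinv ≫ pullback.snd _ _ from (pullback.lift_snd _ _ _).symm]
        simp only [j, Category.assoc, IsIso.inv_hom_id_assoc]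
        exact pullback.lift_snd _ _ _
      have hW : ⊤ ≤ j ⁻¹ᵁ (a.act.left ⁻¹ᵁ V ⊓ (snd G X).left ⁻¹ᵁ V) := by
        intro z _
        refine ⟨?_, ?_⟩
        · show (j ≫ a.act.left) z ∈ V
          rw [hj1]; exact ((pullback.fst q q) z).2
        · show (j ≫ (snd G X).left) z ∈ V
          rw [hj2]; exact ((pullback.snd q q) z).2
      obtain ⟨v, hv⟩ := exists_descend_function q uu (by
        have h1 := congrArg (j.appLE _ ⊤ hW) hc
        rw [← CommRingCat.comp_apply, ← CommRingCat.comp_apply, Scheme.Hom.appLE_comp_appLE,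
          Scheme.Hom.appLE_comp_appLE] at h1
        show (pullback.fst q q).appTop (V.ι.appLE V ⊤ _ c) = (pullback.snd q q).appTop (V.ι.appLE V ⊤ _ c)
        simp only [Scheme.Hom.appTop, Scheme.Hom.app_eq_appLE, ← CommRingCat.comp_apply]
        erw [Scheme.Hom.appLE_comp_appLE, Scheme.Hom.appLE_comp_appLE]
        refine (appLE_congr hj1.symm _ ?_ c).trans (h1.trans (appLE_congr hj2 _ _ c))
        exact le_trans hW fun z hz => hz.1)
      obtain ⟨r, hr⟩ := (ConcreteCategory.bijective_of_isIso (U.ι.appLE U ⊤ _)).2 v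
      refine ⟨r, (ConcreteCategory.bijective_of_isIso (V.ι.appLE V ⊤ _)).1 ?_⟩
      show _ = uu
      rw [← hv, ← hr]
      simp only [Scheme.Hom.appTop, Scheme.Hom.app_eq_appLE, ← CommRingCat.comp_apply]
      erw [Scheme.Hom.appLE_comp_appLE, Scheme.Hom.appLE_comp_appLE]
      exact appLE_congr (morphismRestrict_ι φ.left U).symm _ _ r

theorem universallyOpen_of_isGeomQuot [UniversallyOpen G.hom] (h : GIT.IsGeomQuot a φ) :
    UniversallyOpen φ.left := by
  refine ⟨fun {X' Y'} i₁ i₂ f' hsq => ?_⟩
  have hsub : Topology.IsQuotientMap f' := h.subm i₁ i₂ f' hsq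
  show IsOpenMap f'
  intro O hO
  haveI : UniversallyOpen (snd G X).left := by
    change UniversallyOpen (pullback.snd G.hom X.hom)
    infer_instance
  let q := pullback.snd (snd G X).left i₁
  let w := pullback.fst (snd G X).left i₁
  have hsq' : IsPullback i₁ f' φ.left i₂ := by
    first
    | exact hsq
    | exact hsq.flip
  let σ : pullback (snd G X).left i₁ ⟶ X' := hsq'.lift (w ≫ a.act.left) (q ≫ f') (by
    rw [Category.assoc, h.inv.left, ← Category.assoc, pullback.condition, Category.assoc, hsq'.w, Category.assoc])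
  have key : f' ⁻¹' (f' '' O) = q '' (σ ⁻¹' O) := by
    ext z
    constructor
    · rintro ⟨x, hx, hxz⟩
      obtain ⟨p, hp1, hp2⟩ := Scheme.Pullback.exists_preimage_pullback x z (f := f') (g := f') hxz
      let pt := (pullback f' f').fromSpecResidueField p
      let t : Spec ((pullback f' f').residueField p) ⟶ pullback φ.left φ.left :=
        pullback.lift (pt ≫ pullback.fst _ _ ≫ i₁) (pt ≫ pullback.snd _ _ ≫ i₁) (by
          simp only [Category.assoc, hsq'.w, pullback.condition_assoc])
      haveI : Surjective (GIT.PsiY a φ h.inv) := ⟨h.orbit⟩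
      obtain ⟨ℓ, -⟩ := (pullback.snd (GIT.PsiY a φ h.inv) t).surjective
        (IsLocalRing.closedPoint ((pullback f' f').residueField p))
      let sL := (pullback (GIT.PsiY a φ h.inv) t).fromSpecResidueField ℓ
      let wL := sL ≫ pullback.fst (GIT.PsiY a φ h.inv) t
      let bL := sL ≫ pullback.snd (GIT.PsiY a φ h.inv) t ≫ pt
      have hw : wL ≫ GIT.PsiY a φ h.inv = sL ≫ pullback.snd _ _ ≫ t := by
        simp only [wL, Category.assoc, pullback.condition]
      have hw2 : wL ≫ (snd G X).left = (bL ≫ pullback.snd f' f') ≫ i₁ := by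
        have h2 := hw =≫ pullback.snd φ.left φ.left
        simp only [Category.assoc] at h2
        erw [pullback.lift_snd, pullback.lift_snd] at h2
        simp only [bL, Category.assoc]
        exact h2
      have hw1 : wL ≫ a.act.left = (bL ≫ pullback.fst f' f') ≫ i₁ := by
        have h2 := hw =≫ pullback.fst φ.left φ.left
        simp only [Category.assoc] at h2
        erw [pullback.lift_fst, pullback.lift_fst] at h2
        simp only [bL, Category.assoc]
        exact h2
      let P0 := pullback.lift (f := (snd G X).left) (g := i₁) wL (bL ≫ pullback.snd f' f') hw2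
      have hσ : P0 ≫ σ = bL ≫ pullback.fst f' f' := by
        refine hsq'.hom_ext ?_ ?_
        · rw [Category.assoc, IsPullback.lift_fst, ← Category.assoc, pullback.lift_fst]
          exact hw1
        · rw [Category.assoc, IsPullback.lift_snd, ← Category.assoc, pullback.lift_snd]
          simp only [bL, Category.assoc, pullback.condition]
      let c := IsLocalRing.closedPoint ((pullback (GIT.PsiY a φ h.inv) t).residueField ℓ)
      have hbc : bL c = p := by
        simp only [bL, Scheme.Hom.comp_apply]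
        exact Scheme.fromSpecResidueField_apply _ _
      refine ⟨P0 c, ?_, ?_⟩
      · show (P0 ≫ σ) c ∈ O
        rw [hσ, Scheme.Hom.comp_apply, hbc, hp1]
        exact hx
      · show (P0 ≫ q) c = z
        rw [pullback.lift_snd, Scheme.Hom.comp_apply, hbc, hp2]
    · rintro ⟨w', hw', rfl⟩
      refine ⟨σ w', hw', ?_⟩
      rw [← Scheme.Hom.comp_apply, hsq'.lift_snd, Scheme.Hom.comp_apply]
  rw [← hsub.isOpen_preimage, key]
  exact q.isOpenMap _ (σ.continuous.isOpen_preimage _ hO)

end FibBCLib
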