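import Groth.Agent.FibBCLib.TorsorQuot
import Groth.Agent.GITAffLib.Action
import Groth.Agent.TorsFpqcLib.Basic
import Groth.Prelude.Def_W4bk4git07Quot

/-! Locally isotrivial bundles are principal. -/

set_option autoImplicit false
universe u

noncomputable section

open CategoryTheory CategoryTheory.Limits MonoidalCategory CartesianMonoidalCategory MonObj AlgebraicGeometry
open scoped MonObj

namespace FibBCLib

/-- A property of a morphism can be checked after fpqc covers of an open cover of a base. -/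
theorem of_cover (P : MorphismProperty Scheme.{u}) [IsZariskiLocalAtTarget P]
    [P.DescendsAlong (@Surjective ⊓ @Flat ⊓ @QuasiCompact)] {A B S : Scheme.{u}} (g : A ⟶ B) (π : B ⟶ S)
    (h : ∀ x : S, ∃ (U : S.Opens) (_ : x ∈ U) (W : Scheme.{u}) (c : W ⟶ U.toScheme),
      Flat c ∧ Surjective c ∧ QuasiCompact c ∧ P (pullback.snd g (pullback.fst π (c ≫ U.ι)))) : P g := by
  choose U hxU W c hcf hcs hcq hP using h
  have htop : (⨆ x : S, π ⁻¹ᵁ U x) = ⊤ := by
    refine top_le_iff.mp fun b _ => ?_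
    exact TopologicalSpace.Opens.mem_iSup.mpr ⟨π b, hxU (π b)⟩
  refine IsZariskiLocalAtTarget.of_iSup_eq_top (fun x : S => π ⁻¹ᵁ U x) htop fun x => ?_
  haveI := hcf x; haveI := hcs x; haveI := hcq x
  have sqV : IsPullback (π ⁻¹ᵁ U x).ι (π ∣_ U x) π (U x).ι := (isPullback_morphismRestrict π (U x)).flip
  let c' : pullback π (c x ≫ (U x).ι) ⟶ (π ⁻¹ᵁ U x).toScheme :=
    sqV.lift (pullback.fst π (c x ≫ (U x).ι)) (pullback.snd _ _ ≫ c x) (by rw [Category.assoc]; exact pullback.condition)
  have sqc : IsPullback c' (pullback.snd π (c x ≫ (U x).ι)) (π ∣_ U x) (c x) := by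
    refine IsPullback.of_right ?_ (sqV.lift_snd _ _ _) sqV
    rw [sqV.lift_fst]
    exact IsPullback.of_hasPullback π (c x ≫ (U x).ι)
  haveI : Flat c' := MorphismProperty.of_isPullback sqc.flip (hcf x)
  haveI : Surjective c' := MorphismProperty.of_isPullback (P := @Surjective) sqc.flip (hcs x)
  haveI : QuasiCompact c' := MorphismProperty.of_isPullback (P := @QuasiCompact) sqc.flip (hcq x)
  refine MorphismProperty.of_pullback_snd_of_descendsAlong (Q := @Surjective ⊓ @Flat ⊓ @QuasiCompact)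
    (g := c') ⟨⟨inferInstance, inferInstance⟩, inferInstance⟩ ?_
  have sq : IsPullback (pullback.fst (g ∣_ (π ⁻¹ᵁ U x)) c' ≫ (g ⁻¹ᵁ π ⁻¹ᵁ U x).ι)
      (pullback.snd (g ∣_ (π ⁻¹ᵁ U x)) c') g (pullback.fst π (c x ≫ (U x).ι)) := by
    have := (IsPullback.of_hasPullback (g ∣_ (π ⁻¹ᵁ U x)) c').paste_horiz
      (isPullback_morphismRestrict g (π ⁻¹ᵁ U x)).flip
    rwa [sqV.lift_fst] at this
  rw [← sq.isoPullback_hom_snd, P.cancel_left_of_respectsIso]
  exact hP x

variable {S : Scheme.{u}} {G P X W : Over S} [GrpObj G]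

/-- `(g, x) ↦ (g · x, x)` becomes an isomorphism after a trivialisation. -/
theorem isIso_psiY_pullback (a : AlgGrp.Action G P) (π : P ⟶ X) (hinv : GIT.IsInvariant a π) (w : W ⟶ X) (s : W ⟶ P)
    (hsq : IsPullback (fst W G).left (lift (snd W G) (fst W G ≫ s) ≫ a.act).left w.left π.left) :
    IsIso (pullback.snd (GIT.PsiY a π hinv) (pullback.fst (pullback.fst π.left π.left ≫ π.left) w.left)) := by
  let b : pullback π.left π.left ⟶ X.left := pullback.fst π.left π.left ≫ π.left
  let t : pullback b w.left ⟶ pullback π.left π.left := pullback.fst b w.left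
  let T : Over S := Over.mk (pullback.snd b w.left ≫ W.hom)
  have hb : b ≫ X.hom = pullback.fst π.left π.left ≫ P.hom := by simp only [b, Category.assoc, Over.w]
  have hq' : b = pullback.snd π.left π.left ≫ π.left := pullback.condition
  have hb2 : b ≫ X.hom = pullback.snd π.left π.left ≫ P.hom :=
    (congrArg (fun z => z ≫ X.hom) hq').trans ((Category.assoc _ _ _).trans (congrArg (fun z => pullback.snd π.left π.left ≫ z) (Over.w π)))
  have hT : t ≫ b = pullback.snd b w.left ≫ w.left := pullback.condition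
  have hTS : t ≫ b ≫ X.hom = pullback.snd b w.left ≫ W.hom := by
    rw [← Category.assoc, hT, Category.assoc, Over.w]
  let u : T ⟶ W := Over.homMk (pullback.snd b w.left) rfl
  let p : T ⟶ P := Over.homMk (t ≫ pullback.fst π.left π.left) (by
    show _ = pullback.snd b w.left ≫ W.hom
    rw [← hTS, hb, Category.assoc])
  let q : T ⟶ P := Over.homMk (t ≫ pullback.snd π.left π.left) (by
    show _ = pullback.snd b w.left ≫ W.hom
    rw [← hTS, hb2, Category.assoc])
  let act' := lift (snd W G) (fst W G ≫ s) ≫ a.act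
  have hgen : ∀ (r : T ⟶ P), r.left ≫ π.left = u.left ≫ w.left →
      ∃ g : T ⟶ G, lift g (u ≫ s) ≫ a.act = r := fun r hr => by
    let l : T ⟶ W ⊗ G := Over.homMk (hsq.lift u.left r.left hr.symm) (by
      have e : (W ⊗ G).hom = (fst W G).left ≫ W.hom := (Over.w (fst W G)).symm
      rw [e, ← Category.assoc, hsq.lift_fst]
      exact Over.w u)
    have h1 : l ≫ fst W G = u := Over.OverMorphism.ext (hsq.lift_fst _ _ _)
    have h2 : l ≫ act' = r := Over.OverMorphism.ext (hsq.lift_snd _ _ _)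
    refine ⟨l ≫ snd W G, ?_⟩
    rw [← h2, ← h1]
    simp only [act', Category.assoc]
    rw [comp_lift_assoc]
  obtain ⟨g₁, hg₁⟩ := hgen p (by
    show (t ≫ pullback.fst π.left π.left) ≫ π.left = _
    rw [Category.assoc]; exact hT)
  obtain ⟨g₂, hg₂⟩ := hgen q (by
    show (t ≫ pullback.snd π.left π.left) ≫ π.left = _
    rw [Category.assoc, ← hq']; exact hT)
  let σ : T ⟶ G ⊗ P := lift (g₁ * g₂⁻¹) q
  have hσ : σ.left ≫ GIT.PsiY a π hinv = t := by
    refine pullback.hom_ext ?_ ?_
    · rw [Category.assoc, GIT.PsiY, pullback.lift_fst, ← Over.comp_left]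
      have : σ ≫ a.act = p := by
        rw [show σ = lift (g₁ * g₂⁻¹) q from rfl, ← hg₂, ← GITAffLib.lift_mul_act, inv_mul_cancel_right, hg₁]
      rw [this]; rfl
    · rw [Category.assoc, GIT.PsiY, pullback.lift_snd, ← Over.comp_left]
      rw [show σ ≫ snd G P = q from lift_snd _ _]; rfl
  refine ⟨⟨pullback.lift σ.left (𝟙 _) (by rw [hσ, Category.id_comp]), ?_, pullback.lift_snd _ _ _⟩⟩
  refine pullback.hom_ext ?_ (by rw [Category.assoc, pullback.lift_snd, Category.comp_id, Category.id_comp])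
  rw [Category.assoc, pullback.lift_fst, Category.id_comp]
  have hR := pullback.condition (f := GIT.PsiY a π hinv) (g := t)
  let R : Over S := Over.mk (pullback.snd (GIT.PsiY a π hinv) t ≫ T.hom)
  let v : R ⟶ T := Over.homMk (pullback.snd (GIT.PsiY a π hinv) t) rfl
  let r : R ⟶ G ⊗ P := Over.homMk (pullback.fst (GIT.PsiY a π hinv) t) (by
    show _ = pullback.snd (GIT.PsiY a π hinv) t ≫ T.hom
    rw [← Over.w (snd G P)]
    have e := congrArg (fun z => z ≫ pullback.snd π.left π.left ≫ P.hom) hR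
    simp only [GIT.PsiY, Category.assoc, pullback.lift_snd_assoc] at e
    refine e.trans ?_
    exact congrArg (fun z => pullback.snd _ t ≫ z) ((Category.assoc _ _ _).symm.trans (Over.w q)))
  have hrq : r ≫ snd G P = v ≫ q := Over.OverMorphism.ext (by
    show pullback.fst _ t ≫ (snd G P).left = pullback.snd _ t ≫ t ≫ pullback.snd π.left π.left
    rw [← reassoc_of% hR, GIT.PsiY, pullback.lift_snd])
  have hrp : r ≫ a.act = v ≫ p := Over.OverMorphism.ext (by
    show pullback.fst _ t ≫ a.act.left = pullback.snd _ t ≫ t ≫ pullback.fst π.left π.left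
    rw [← reassoc_of% hR, GIT.PsiY, pullback.lift_fst])
  have hr : r = lift (r ≫ fst G P) (v ≫ q) := by rw [← hrq]; ext1 <;> simp
  have key : r ≫ fst G P * (v ≫ g₂) = v ≫ g₁ := by
    have e1 : lift (v ≫ u) (r ≫ fst G P * (v ≫ g₂)) ≫ act' = lift (v ≫ u) (v ≫ g₁) ≫ act' := by
      simp only [act', comp_lift_assoc, lift_snd, lift_fst_assoc, Category.assoc]
      rw [GITAffLib.lift_mul_act]
      have f2 : lift (v ≫ g₂) (v ≫ u ≫ s) ≫ a.act = v ≫ q := by rw [← comp_lift_assoc, hg₂]
      have f1 : lift (v ≫ g₁) (v ≫ u ≫ s) ≫ a.act = v ≫ p := by rw [← comp_lift_assoc, hg₁]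
      rw [f2, f1, ← hrp, ← hr]
    have e2 : lift (v ≫ u) (r ≫ fst G P * (v ≫ g₂)) = lift (v ≫ u) (v ≫ g₁) := by
      refine Over.OverMorphism.ext (hsq.hom_ext ?_ ?_)
      · rw [← Over.comp_left, ← Over.comp_left, lift_fst, lift_fst]
      · exact congrArg CommaMorphism.left e1
    simpa using congrArg (fun z => z ≫ snd W G) e2
  have fin : v ≫ σ = r := by
    rw [hr, show σ = lift (g₁ * g₂⁻¹) q from rfl, comp_lift, MonObj.comp_mul, GrpObj.comp_inv, ← key, mul_inv_cancel_right]
  exact congrArg CommaMorphism.left fin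

/-- A locally isotrivial invariant map is principal and flat. -/
theorem principal_of_isotrivial (a : AlgGrp.Action G P) (π : P ⟶ X) (hinv : GIT.IsInvariant a π) [Flat G.hom]
    (h : ∀ x : X.left, ∃ (U : X.left.Opens) (_ : x ∈ U) (W : Over S) (c : W.left ⟶ U.toScheme) (w : W ⟶ X) (s : W ⟶ P),
      Flat c ∧ Surjective c ∧ QuasiCompact c ∧ w.left = c ≫ U.ι ∧
        IsPullback (fst W G).left (lift (snd W G) (fst W G ≫ s) ≫ a.act).left w.left π.left) :
    IsIso (GIT.PsiY a π hinv) ∧ Flat π.left := by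
  refine ⟨of_cover (MorphismProperty.isomorphisms Scheme) (GIT.PsiY a π hinv) (pullback.fst π.left π.left ≫ π.left) fun x => ?_,
    of_cover @Flat π.left (𝟙 _) fun x => ?_⟩
  · obtain ⟨U, hx, W, c, w, s, h1, h2, h3, hw, hsq⟩ := h x
    refine ⟨U, hx, W.left, c, h1, h2, h3, ?_⟩
    have := isIso_psiY_pullback a π hinv w s hsq
    rw [hw] at this
    exact this
  · obtain ⟨U, hx, W, c, w, s, h1, h2, h3, hw, hsq⟩ := h x
    refine ⟨U, hx, W.left, c, h1, h2, h3, ?_⟩
    rw [← hw]
    have hfl : Flat (fst W G).left := by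
      rw [Over.fst_left]
      exact MorphismProperty.pullback_fst _ _ ‹Flat G.hom›
    have sq := (IsPullback.of_hasPullback π.left (pullback.fst (𝟙 X.left) w.left)).paste_vert
      (IsPullback.of_hasPullback (𝟙 X.left) w.left)
    rw [Category.comp_id] at sq
    have e := sq.isoIsPullback_hom_snd _ _ hsq.flip
    have : Flat (pullback.snd π.left (pullback.fst (𝟙 X.left) w.left) ≫ pullback.snd (𝟙 X.left) w.left) := by
      rw [← e]; exact (MorphismProperty.cancel_left_of_respectsIso @Flat _ _).mpr hfl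
    exact (MorphismProperty.cancel_right_of_respectsIso @Flat _ _).mp this

end FibBCLib
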