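import Groth.Agent.FibBCLib.GeomQuotBasic
import Groth.Agent.GITAffLib.Global

/-! Geometric quotients descend along fpqc base change. -/

set_option autoImplicit false
universe u

noncomputable section

open CategoryTheory CategoryTheory.Limits MonoidalCategory CartesianMonoidalCategory AlgebraicGeometry TopologicalSpace Opposite

namespace FibBCLib

theorem injective_inr_of_isPushout {A S B P : CommRingCat.{u}} {i : A ⟶ S} {j : A ⟶ B} {c : S ⟶ P} {d : B ⟶ P}
    (H : IsPushout i j c d) (hi : Function.Injective i.hom) (hj : j.hom.Flat) : Function.Injective d.hom := by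
  letI := i.hom.toAlgebra
  letI := j.hom.toAlgebra
  haveI : Module.Flat A B := hj
  let e := (CommRingCat.isPushout_tensorProduct A S B).isoIsPushout _ _ H
  have he := IsPushout.inr_isoIsPushout_hom _ _ (CommRingCat.isPushout_tensorProduct A S B) H
  rw [← he]
  exact (ConcreteCategory.bijective_of_isIso e.hom).1.comp
    (Algebra.TensorProduct.includeRight_injective (R := A) (A := S) (B := B) hi)

variable {X Y X' Y' : Scheme.{u}} {g' : X' ⟶ X} {f' : X' ⟶ Y'} {f : X ⟶ Y} {g : Y' ⟶ Y}

theorem app_injective_baseChange [Flat g] [QuasiCompact f] [QuasiSeparated f] (H : IsPullback g' f' f g)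
    (hf : ∀ V : Y.Opens, Function.Injective (f.app V)) (W : Y'.Opens) : Function.Injective (f'.app W) := by
  intro s t hst
  refine TopCat.Presheaf.section_ext Y'.sheaf W s t fun y hy => ?_
  obtain ⟨V, hV, hyV, -⟩ := exists_isAffineOpen_mem_and_subset (x := g y) (U := ⊤) trivial
  obtain ⟨W', hW', hyW', hle'⟩ := exists_isAffineOpen_mem_and_subset (x := y) (U := W ⊓ g ⁻¹ᵁ V) ⟨hy, hyV⟩
  have hWW : W' ≤ W := fun z hz => (hle' hz).1
  have hle : W' ≤ g ⁻¹ᵁ V := fun z hz => (hle' hz).2
  have hUY : f' ⁻¹ᵁ W' = g' ⁻¹ᵁ (f ⁻¹ᵁ V) ⊓ f' ⁻¹ᵁ W' := by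
    refine le_antisymm (le_inf ?_ le_rfl) inf_le_right
    intro x hx
    show f (g' x) ∈ V
    rw [← Scheme.Hom.comp_apply, H.w, Scheme.Hom.comp_apply]
    exact hle hx
  have h := (isIso_pushoutSection_iff H hle le_rfl hUY).mp
    (isIso_pushoutSection_of_isQuasiSeparated_of_flat_right H hle le_rfl hUY hV hW'
      (f.isCompact_preimage hV.isCompact) (f.isQuasiSeparated_preimage hV.isQuasiSeparated))
  have hinj := injective_inr_of_isPushout h (by rw [← Scheme.Hom.app_eq_appLE]; exact hf V) (g.flat_appLE hV hW' hle)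
  have h2 : Y'.presheaf.map (homOfLE hWW).op s = Y'.presheaf.map (homOfLE hWW).op t := by
    refine hinj ?_
    show (Y'.presheaf.map _ ≫ f'.appLE W' (f' ⁻¹ᵁ W') _) s = (Y'.presheaf.map _ ≫ f'.appLE W' (f' ⁻¹ᵁ W') _) t
    rw [Scheme.Hom.map_appLE]
    have h3 := congrArg (X'.presheaf.map (homOfLE (f'.preimage_mono hWW)).op) hst
    exact h3
  have h4 := congrArg (Y'.presheaf.germ W' y hyW').hom h2
  erw [TopCat.Presheaf.germ_res_apply, TopCat.Presheaf.germ_res_apply] at h4
  exact h4

variable {S : Scheme.{u}} {G X Y X' Y' : Over S} [GrpObj G] {a : AlgGrp.Action G X} {φ : X ⟶ Y}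
  {pr : X' ⟶ X} {φ' : X' ⟶ Y'} {α : Y' ⟶ Y} {a' : AlgGrp.Action G X'}

theorem appLE_app_comp {A B C : Scheme.{u}} (f : A ⟶ B) (g : B ⟶ C) {U : C.Opens} {V : B.Opens} {W : A.Opens}
    (e₁ : V ≤ g ⁻¹ᵁ U) (e₂ : W ≤ f ⁻¹ᵁ V) (x : Γ(C, U)) :
    f.appLE V W e₂ (g.appLE U V e₁ x) = (f ≫ g).appLE U W (e₂.trans (f.preimage_mono e₁)) x := by
  rw [← CommRingCat.comp_apply, Scheme.Hom.appLE_comp_appLE]

theorem isGeomQuot_of_fpqc [QuasiCompact φ.left] [QuasiSeparated φ.left] [Flat α.left] [Surjective α.left]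
    [QuasiCompact α.left] (hinv : GIT.IsInvariant a φ) (sq : IsPullback pr φ' φ α)
    (heq : a'.act ≫ pr = (G ◁ pr) ≫ a.act) (h : GIT.IsGeomQuot a' φ') : GIT.IsGeomQuot a φ := by
  have hL : IsPullback pr.left φ'.left φ.left α.left := sq.map (Over.forget S)
  haveI : Flat pr.left := MorphismProperty.of_isPullback hL.flip inferInstance
  haveI : Surjective pr.left := MorphismProperty.of_isPullback hL.flip inferInstance
  haveI : QuasiCompact φ'.left := MorphismProperty.of_isPullback hL inferInstance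
  haveI : QuasiSeparated φ'.left := MorphismProperty.of_isPullback hL inferInstance
  refine ⟨hinv, ?_, ?_, ?_, ?_⟩
  · intro y
    obtain ⟨y', rfl⟩ := α.left.surjective y
    obtain ⟨x', rfl⟩ := h.surj y'
    refine ⟨pr.left x', ?_⟩
    rw [← Scheme.Hom.comp_apply, hL.w, Scheme.Hom.comp_apply]
  · let m : pullback φ'.left φ'.left ⟶ pullback φ.left φ.left :=
      pullback.lift (pullback.fst _ _ ≫ pr.left) (pullback.snd _ _ ≫ pr.left) (by
        simp only [Category.assoc, hL.w, pullback.condition_assoc])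
    let T := pullback (pullback.fst φ.left φ.left ≫ φ.left) α.left
    let n1 : T ⟶ X'.left := hL.lift (pullback.fst _ _ ≫ pullback.fst φ.left φ.left) (pullback.snd _ _)
      (by rw [Category.assoc]; exact pullback.condition)
    let n2 : T ⟶ X'.left := hL.lift (pullback.fst _ _ ≫ pullback.snd φ.left φ.left) (pullback.snd _ _)
      (by rw [Category.assoc, ← pullback.condition (f := φ.left) (g := φ.left)]; exact pullback.condition)
    let n : T ⟶ pullback φ'.left φ'.left := pullback.lift n1 n2 (by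
      rw [hL.lift_snd, hL.lift_snd])
    have hnm : n ≫ m = pullback.fst (pullback.fst φ.left φ.left ≫ φ.left) α.left := by
      refine pullback.hom_ext ?_ ?_
      · simp only [Category.assoc, n, m, pullback.lift_fst, pullback.lift_fst_assoc]
        exact hL.lift_fst _ _ _
      · simp only [Category.assoc, n, m, pullback.lift_snd, pullback.lift_snd_assoc]
        exact hL.lift_fst _ _ _
    have key : GIT.PsiY a' φ' h.inv ≫ m = (G ◁ pr).left ≫ GIT.PsiY a φ hinv := by
      refine pullback.hom_ext ?_ ?_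
      · simp only [Category.assoc, GIT.PsiY, m, pullback.lift_fst, pullback.lift_fst_assoc]
        exact congrArg CommaMorphism.left heq
      · simp only [Category.assoc, GIT.PsiY, m, pullback.lift_snd, pullback.lift_snd_assoc]
        exact congrArg CommaMorphism.left (whiskerLeft_snd G pr).symm
    intro z
    obtain ⟨t, rfl⟩ := (pullback.fst (pullback.fst φ.left φ.left ≫ φ.left) α.left).surjective z
    obtain ⟨w, hw⟩ := h.orbit (n t)
    refine ⟨(G ◁ pr).left w, ?_⟩
    show (GIT.PsiY a φ hinv) ((G ◁ pr).left w) = _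
    rw [← Scheme.Hom.comp_apply, ← key, Scheme.Hom.comp_apply, ← hnm, Scheme.Hom.comp_apply]
    exact congrArg m hw
  · intro X'' Y'' i₁ i₂ f'' hsq
    let p := pullback.fst i₂ α.left
    let q₁ := pullback.fst f'' p
    let q₂ := pullback.snd f'' p
    let j : pullback f'' p ⟶ X'.left := hL.lift (q₁ ≫ i₁) (q₂ ≫ pullback.snd i₂ α.left) (by
      rw [Category.assoc, ← hsq.w, ← Category.assoc, show q₁ ≫ f'' = q₂ ≫ p from pullback.condition, Category.assoc,
        pullback.condition, Category.assoc])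
    have H : IsPullback j q₂ φ'.left (pullback.snd i₂ α.left) := by
      refine IsPullback.of_right ?_ (hL.lift_snd _ _ _) hL
      rw [hL.lift_fst, ← pullback.condition]
      exact (IsPullback.of_hasPullback f'' p).paste_horiz hsq.flip
    have h1 : Topology.IsQuotientMap q₂ := h.subm j (pullback.snd i₂ α.left) q₂ H.flip
    have h2 : Topology.IsQuotientMap p := Flat.isQuotientMap_of_surjective p
    have h3 := h2.comp h1
    rw [← TopCat.coe_comp, ← Scheme.Hom.comp_base, ← show q₁ ≫ f'' = q₂ ≫ p from pullback.condition,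
      Scheme.Hom.comp_base, TopCat.coe_comp] at h3
    exact Topology.IsQuotientMap.of_comp q₁.continuous f''.continuous h3
  · refine GITAffLib.sections_of_affine hinv fun V hV => ?_
    have hle : φ'.left ⁻¹ᵁ (α.left ⁻¹ᵁ V) ≤ pr.left ⁻¹ᵁ (φ.left ⁻¹ᵁ V) := by
      rw [← Scheme.Hom.comp_preimage, ← Scheme.Hom.comp_preimage, hL.w]
    have hle' : pr.left ⁻¹ᵁ (φ.left ⁻¹ᵁ V) ≤ φ'.left ⁻¹ᵁ (α.left ⁻¹ᵁ V) := by
      rw [← Scheme.Hom.comp_preimage, ← Scheme.Hom.comp_preimage, hL.w]
    refine ⟨fun s t e => app_injective_of_flat α.left V ((h.sections (α.left ⁻¹ᵁ V)).1 ?_), ?_⟩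
    · have := congrArg (pr.left.appLE _ _ hle) e
      simp only [Scheme.Hom.app_eq_appLE, appLE_app_comp] at this ⊢
      exact (appLE_congr hL.w.symm _ _ s).trans (this.trans (appLE_congr hL.w _ _ t))
    refine Set.ext fun c => ⟨?_, fun hc => ?_⟩
    · rintro ⟨r, rfl⟩
      show GIT.IsInvSection a φ V _
      rw [Scheme.Hom.app_eq_appLE]
      exact GITQuotLib.isInvSection_appLE hinv le_rfl r
    · have hc' : GIT.IsInvSection a' φ' (α.left ⁻¹ᵁ V) (pr.left.appLE _ _ hle c) := by
        have hW : a'.act.left ⁻¹ᵁ (φ'.left ⁻¹ᵁ (α.left ⁻¹ᵁ V)) ⊓ (snd G X').left ⁻¹ᵁ (φ'.left ⁻¹ᵁ (α.left ⁻¹ᵁ V)) ≤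
            (G ◁ pr).left ⁻¹ᵁ (a.act.left ⁻¹ᵁ (φ.left ⁻¹ᵁ V) ⊓ (snd G X).left ⁻¹ᵁ (φ.left ⁻¹ᵁ V)) := by
          rintro z ⟨hz1, hz2⟩
          refine ⟨?_, ?_⟩
          · show ((G ◁ pr) ≫ a.act).left z ∈ φ.left ⁻¹ᵁ V
            rw [← heq]
            exact hle hz1
          · show ((G ◁ pr) ≫ snd G X).left z ∈ φ.left ⁻¹ᵁ V
            rw [whiskerLeft_snd]
            exact hle hz2
        have := congrArg ((G ◁ pr).left.appLE _ _ hW) hc
        unfold GIT.IsInvSection
        simp only [appLE_app_comp] at this ⊢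
        exact (appLE_congr (congrArg CommaMorphism.left heq) _ _ c).trans (this.trans
          (appLE_congr (congrArg CommaMorphism.left (whiskerLeft_snd G pr)) _ _ c))
      obtain ⟨r, hr⟩ := (Set.ext_iff.1 (h.sections (α.left ⁻¹ᵁ V)).2 _).2 hc'
      -- descent of `r`
      let q := α.left ∣_ V
      haveI : Flat q := IsZariskiLocalAtTarget.restrict (P := @Flat) ‹Flat α.left› V
      haveI : Surjective q := IsZariskiLocalAtTarget.restrict (P := @Surjective) ‹Surjective α.left› V
      haveI : QuasiCompact q := IsZariskiLocalAtTarget.restrict (P := @QuasiCompact) ‹QuasiCompact α.left› V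
      let V' := α.left ⁻¹ᵁ V
      let β := pullback.fst α.left α.left
      let β' := pullback.snd α.left α.left
      let W := β ⁻¹ᵁ V'
      have hW2 : W ≤ β' ⁻¹ᵁ V' := by
        intro z hz
        show α.left (β' z) ∈ V
        rw [← Scheme.Hom.comp_apply, ← pullback.condition, Scheme.Hom.comp_apply]
        exact hz
      have hrW : β.appLE V' W le_rfl r = β'.appLE V' W hW2 r := by
        let X₂ := pullback φ'.left β
        let φ₂ : X₂ ⟶ pullback α.left α.left := pullback.snd φ'.left β
        let π : X₂ ⟶ X'.left := pullback.fst φ'.left β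
        let π' : X₂ ⟶ X'.left := hL.lift (π ≫ pr.left) (φ₂ ≫ β') (by
          rw [Category.assoc, hL.w, ← Category.assoc, show π ≫ φ'.left = φ₂ ≫ β from pullback.condition,
            Category.assoc, Category.assoc, pullback.condition])
        refine app_injective_baseChange (IsPullback.of_hasPullback φ'.left β) (fun V => (h.sections V).1) W ?_
        show φ₂.app W _ = φ₂.app W _
        have e1 : φ₂ ⁻¹ᵁ W ≤ π ⁻¹ᵁ (φ'.left ⁻¹ᵁ V') := fun z hz => by
          show (π ≫ φ'.left) z ∈ V'
          rw [show π ≫ φ'.left = φ₂ ≫ β from pullback.condition]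
          exact hz
        have e2 : φ₂ ⁻¹ᵁ W ≤ π' ⁻¹ᵁ (φ'.left ⁻¹ᵁ V') := fun z hz => by
          show (π' ≫ φ'.left) z ∈ V'
          rw [hL.lift_snd]
          exact hW2 hz
        rw [Scheme.Hom.app_eq_appLE] at hr
        have k1 := ((appLE_app_comp π φ'.left le_rfl e1 r).symm.trans (congrArg (π.appLE _ _ e1) hr)).trans
          (appLE_app_comp π pr.left hle e1 c)
        have k2 := ((appLE_app_comp π' φ'.left le_rfl e2 r).symm.trans (congrArg (π'.appLE _ _ e2) hr)).trans
          (appLE_app_comp π' pr.left hle e2 c)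
        rw [Scheme.Hom.app_eq_appLE]
        erw [appLE_app_comp, appLE_app_comp]
        refine (appLE_congr pullback.condition.symm _ _ r).trans (k1.trans ?_)
        refine (Eq.trans ?_ k2.symm).trans (appLE_congr (hL.lift_snd _ _ _) _ _ r)
        exact appLE_congr (hL.lift_fst _ _ _).symm _ _ c
      let uu : Γ((V' : Scheme.{u}), ⊤) := V'.ι.appLE V' ⊤ (by simp) r
      let j : pullback q q ⟶ pullback α.left α.left :=
        pullback.lift (pullback.fst q q ≫ V'.ι) (pullback.snd q q ≫ V'.ι) (by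
          rw [Category.assoc, Category.assoc, ← morphismRestrict_ι, pullback.condition_assoc])
      have hj : ⊤ ≤ j ⁻¹ᵁ W := by
        intro z _
        show (j ≫ β) z ∈ V'
        rw [pullback.lift_fst]
        exact ((pullback.fst q q) z).2
      obtain ⟨v, hv⟩ := exists_descend_function q uu (by
        have h1 := congrArg (j.appLE _ ⊤ hj) hrW
        simp only [appLE_app_comp] at h1
        show (pullback.fst q q).appTop (V'.ι.appLE V' ⊤ _ r) = (pullback.snd q q).appTop (V'.ι.appLE V' ⊤ _ r)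
        simp only [Scheme.Hom.appTop, Scheme.Hom.app_eq_appLE, ← CommRingCat.comp_apply]
        erw [Scheme.Hom.appLE_comp_appLE, Scheme.Hom.appLE_comp_appLE]
        refine (appLE_congr (pullback.lift_fst _ _ _).symm _ ?_ r).trans (h1.trans (appLE_congr (pullback.lift_snd _ _ _) _ _ r))
        exact le_trans hj le_rfl)
      obtain ⟨b, hb⟩ := (ConcreteCategory.bijective_of_isIso (V.ι.appLE V ⊤ _)).2 v
      have hbr : α.left.app V b = r := by
        refine (ConcreteCategory.bijective_of_isIso (V'.ι.appLE V' ⊤ _)).1 ?_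
        show _ = uu
        rw [← hv, ← hb]
        simp only [Scheme.Hom.appTop, Scheme.Hom.app_eq_appLE, ← CommRingCat.comp_apply]
        erw [Scheme.Hom.appLE_comp_appLE, Scheme.Hom.appLE_comp_appLE]
        exact appLE_congr (morphismRestrict_ι α.left V).symm _ _ b
      refine ⟨b, app_injective_of_flat pr.left (φ.left ⁻¹ᵁ V) ?_⟩
      have k : φ'.left.app (α.left ⁻¹ᵁ V) (α.left.app V b) = pr.left.appLE _ _ hle c := by rw [hbr]; exact hr
      have k' := congrArg (X'.left.presheaf.map (homOfLE hle').op) k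
      simp only [Scheme.Hom.app_eq_appLE, appLE_app_comp] at k' ⊢
      simp only [← CommRingCat.comp_apply, Scheme.Hom.appLE_map] at k'
      exact (appLE_congr hL.w _ _ b).trans k'

theorem isUnivGeomQuot_of_fpqc [QuasiCompact φ.left] [QuasiSeparated φ.left] [Flat α.left] [Surjective α.left]
    [QuasiCompact α.left] (hinv : GIT.IsInvariant a φ) (sq : IsPullback pr φ' φ α)
    (heq : a'.act ≫ pr = (G ◁ pr) ≫ a.act) (h : GIT.IsUnivGeomQuot a' φ') : GIT.IsUnivGeomQuot a φ := by
  refine ⟨isGeomQuot_of_fpqc hinv sq heq h.1, fun X₁ Z pr₁ φ₁ g _ sq₁ a₁ he₁ hi₁ => ?_⟩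
  have hL₁ : IsPullback pr₁.left φ₁.left φ.left g.left := sq₁.map (Over.forget S)
  haveI : QuasiCompact φ₁.left := MorphismProperty.of_isPullback hL₁ inferInstance
  haveI : QuasiSeparated φ₁.left := MorphismProperty.of_isPullback hL₁ inferInstance
  have sqZ := IsPullback.of_hasPullback g α
  have sq₂ := IsPullback.of_hasPullback φ' (pullback.snd g α)
  have hLZ : IsPullback (pullback.fst g α).left (pullback.snd g α).left g.left α.left := sqZ.map (Over.forget S)
  haveI : Flat (pullback.fst g α).left := MorphismProperty.of_isPullback hLZ.flip inferInstance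
  haveI : Surjective (pullback.fst g α).left := MorphismProperty.of_isPullback hLZ.flip inferInstance
  haveI : QuasiCompact (pullback.fst g α).left := MorphismProperty.of_isPullback hLZ.flip inferInstance
  obtain ⟨a₂, he₂, hi₂⟩ := GITQuotLib.exists_action h.1.inv sq₂
  have h₂ := h.2 _ _ _ trivial sq₂ a₂ he₂ hi₂
  have hbig : IsPullback (pullback.fst φ' (pullback.snd g α) ≫ pr) (pullback.snd φ' (pullback.snd g α)) φ
      (pullback.fst g α ≫ g) := by
    rw [pullback.condition]
    exact sq₂.paste_horiz sq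
  let p₂ := sq₁.lift (pullback.fst φ' (pullback.snd g α) ≫ pr)
    (pullback.snd φ' (pullback.snd g α) ≫ pullback.fst g α) (by rw [hbig.w, Category.assoc])
  have sq₃ : IsPullback p₂ (pullback.snd φ' (pullback.snd g α)) φ₁ (pullback.fst g α) := by
    refine IsPullback.of_right ?_ (sq₁.lift_snd _ _ _) sq₁
    rw [sq₁.lift_fst]
    exact hbig
  refine isGeomQuot_of_fpqc hi₁ sq₃ (sq₁.hom_ext ?_ ?_) h₂
  · rw [Category.assoc, Category.assoc, sq₁.lift_fst, he₁, ← MonoidalCategory.whiskerLeft_comp_assoc, sq₁.lift_fst,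
      ← Category.assoc, he₂, Category.assoc, heq, ← MonoidalCategory.whiskerLeft_comp_assoc]
  · rw [Category.assoc, Category.assoc, sq₁.lift_snd, show a₁.act ≫ φ₁ = snd G X₁ ≫ φ₁ from hi₁,
      whiskerLeft_snd_assoc, sq₁.lift_snd, ← Category.assoc, show a₂.act ≫ pullback.snd φ' (pullback.snd g α) = _ from hi₂,
      Category.assoc]

end FibBCLib
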